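import Mathlib
import Cfsg.Agent.TcData.Fi22.I3510.Rep
import Cfsg.Agent.TcChain36.Fi22.Upper

set_option autoImplicit false
set_option maxRecDepth 100000
set_option linter.all false

namespace Cfsg.Agent.TcChain36.Fi22

open Cfsg.Spor Cfsg.Agent.Lib.TcFacts Cfsg.Agent.Lib.TcBits Cfsg.Agent.Lib.TcPres Cfsg.Agent.Lib.PresChain36
open Cfsg.Spor.Fi22 Cfsg.Agent.TcData.Fi22 Cfsg.Agent.TcData.Fi22.I3510

/-- A word of the free group. -/
noncomputable def W (l : List (Cfsg.Spor.Fi22.Gen × Bool)) : FreeGroup Cfsg.Spor.Fi22.Gen := FreeGroup.mk l

instance finG : Finite (PresentedGroup RR) := upper.2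

/-- The words of level 0. -/
noncomputable def rs0 : List (FreeGroup Cfsg.Spor.Fi22.Gen) := [
  W [(.a, true)],
  W [(.b, true)],
  W [(.c, true)],
  W [(.d, true)],
  W [(.e, true)],
  W [(.f, true)],
  W [(.g, true)],
  W [(.h, true)],
  W [(.i, true)]]

/-- The mask of level 0. -/
def M0 : ℕ := nat_lit 0x3fffffffffffffffffffffffffffffffffffffffffffffffffffffffffffffffffffffffffffffffffffffffffffffffffffffffffffffffffffffffffffffffffffffffffffffffffffffffffffffffffffffffffffffffffffffffffffffffffffffffffffffffffffffffffffffffffffffffffffffffffffffffffffffffffffffffffffffffffffffffffffffffffffffffffffffffffffffffffffffffffffffffffffffffffffffffffffffffffffffffffffffffffffffffffffffffffffffffffffffffffffffffffffffffffffffffffffffffffffffffffffffffffffffffffffffffffffffffffffffffffffffffffffffffffffffffffffffffffffffffffffffffffffffffffffffffffffffffffffffffffffffffffffffffffffffffffffffffffffffffffffffffffffffffffffffffffffffffffffffffffffffffffffffffffffffffffffffffffffffffffffffffffffffffffffffffffffffffffffffffffffffffffffffffffffffffffffffffffffffffffffffffffffffffffffffffffffffffffffffffffffffffffffffffffffffffffffffffffffffffffffffffffffffffffffffffffffffffffffff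

theorem fix0 : ∀ r ∈ rs0, ∀ b ∈ ([] : List ℕ), wordApply (sgnProg pr) r.toWord (2 ^ b) = 2 ^ b := by simp

theorem M0_eq : grow pr (rs0.map FreeGroup.toWord) 6 (2 ^ 0) = M0 := by decide +kernel

theorem M0_lt : M0 < 2 ^ 2 ^ 12 := by decide +kernel

theorem M0_cnt : sumRange M0.testBit 12 0 = 3510 := by decide +kernel

theorem L0 : 3510 * Nat.card (ptStab Phi ([0] : List ℕ)) ≤ Nat.card (ptStab Phi ([] : List ℕ)) :=
  card_step (M0_eq ▸ sound_ptStab hR hv rs0 fix0 6 0) M0_lt M0_cnt

/-- The words of level 1. -/
noncomputable def rs1 : List (FreeGroup Cfsg.Spor.Fi22.Gen) := [
  W [(.c, true)],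
  W [(.d, true)],
  W [(.e, true)],
  W [(.f, true)],
  W [(.g, true)],
  W [(.h, true)],
  W [(.i, true)],
  W [(.b, true), (.a, true), (.c, true), (.b, true), (.d, true), (.c, true), (.e, true), (.d, true), (.h, true), (.d, true), (.e, true), (.c, true), (.d, true), (.b, true), (.c, true), (.a, true), (.b, true)]]

/-- The mask of level 1. -/
def M1 : ℕ := nat_lit 0x180000000000000000000000000000900c000000000000200000000000009000000000000009000e000000000000000000050000000000000004b0000000000000026000380000000000000000000120068000000000000001cd80000000000201b0003000000000000009000000003401e1000000000000003bc00000000203c00100000000000000000d800000007803c170000000000000fc00000303c002000000000200000180003e000001e01e83e0000010000f800060f000000020000007000003c0007c0003c0fc03e00018047801c7800000000380000807c0003c01e00787e003c00e09e0670000000000004780008183c00f03c0e7f0021e06271b80000000000000000c1e00600e0781c71dc03c08719736000000000000000002c0f0020e071c739be00e31cdef00000000000000000030e0e2071c739b7e239bbf80000000000000000000f071ce39cdbfe5dffc00000000020000000000fe39b9b7fefffe00000000000000001ff9bdffffffa0000000000000ffdfffff980000000001fffffec00000000ffffe0000001fffc000003ff800007fe0001ffe0005ffc000ffc001f80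

theorem fix1 : ∀ r ∈ rs1, ∀ b ∈ ([0] : List ℕ), wordApply (sgnProg pr) r.toWord (2 ^ b) = 2 ^ b := by decide +kernel

theorem M1_eq : grow pr (rs1.map FreeGroup.toWord) 4 (2 ^ 12) = M1 := by decide +kernel

theorem M1_lt : M1 < 2 ^ 2 ^ 12 := by decide +kernel

theorem M1_cnt : sumRange M1.testBit 12 0 = 693 := by decide +kernel

theorem L1 : 693 * Nat.card (ptStab Phi ([12, 0] : List ℕ)) ≤ Nat.card (ptStab Phi ([0] : List ℕ)) :=
  card_step (M1_eq ▸ sound_ptStab hR hv rs1 fix1 4 12) M1_lt M1_cnt

/-- The words of level 2. -/
noncomputable def rs2 : List (FreeGroup Cfsg.Spor.Fi22.Gen) := [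
  W [(.e, true)],
  W [(.f, true)],
  W [(.g, true)],
  W [(.i, true)],
  W [(.b, true), (.a, true), (.c, true), (.b, true), (.d, true), (.c, true), (.e, true), (.d, true), (.h, true), (.d, true), (.e, true), (.c, true), (.d, true), (.b, true), (.c, true), (.a, true), (.b, true)],
  W [(.d, true), (.c, true), (.e, true), (.d, true), (.h, true), (.d, true), (.e, true), (.c, true), (.d, true)]]

/-- The mask of level 2. -/
def M2 : ℕ := nat_lit 0x180000000000000000000000000000900000000000000020000000000000000000000000000800000000000000000000000000000000000000000000000000000000000000000000000000000000000000000000000000000100000000000000000000200000000000000000000000000040000000000000002000000000000080010000000000000000000000000000034000000000000000800000000340020000000000000000000000000000001e00000000000000000000f000000000000000000000000000000000f00000000004000007800000000080000000000000000000036000000008000300000000000006800001800000000001f002000020008000000000000000001e00600e00000000403c0800000000000000000000000000f0020e03000000e006100000000000000000000000000062030c1000062080000000000000000000000000004608400120004c00000000020000000000000008000803260000000000000000100000008e6480000000000000600000640000000000004040100000000000300200000003c2c000001ef800007fe0001e1e000580c000404000000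

theorem fix2 : ∀ r ∈ rs2, ∀ b ∈ ([12, 0] : List ℕ), wordApply (sgnProg pr) r.toWord (2 ^ b) = 2 ^ b := by decide +kernel

theorem M2_eq : grow pr (rs2.map FreeGroup.toWord) 5 (2 ^ 59) = M2 := by decide +kernel

theorem M2_lt : M2 < 2 ^ 2 ^ 12 := by decide +kernel

theorem M2_cnt : sumRange M2.testBit 12 0 = 180 := by decide +kernel

theorem L2 : 180 * Nat.card (ptStab Phi ([59, 12, 0] : List ℕ)) ≤ Nat.card (ptStab Phi ([12, 0] : List ℕ)) :=
  card_step (M2_eq ▸ sound_ptStab hR hv rs2 fix2 5 59) M2_lt M2_cnt

/-- The words of level 3. -/
noncomputable def rs3 : List (FreeGroup Cfsg.Spor.Fi22.Gen) := [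
  W [(.i, true)],
  W [(.b, true), (.a, true), (.c, true), (.b, true), (.d, true), (.c, true), (.e, true), (.d, true), (.h, true), (.d, true), (.e, true), (.c, true), (.d, true), (.b, true), (.c, true), (.a, true), (.b, true)],
  W [(.f, true), (.e, true), (.g, true), (.f, true), (.d, true), (.c, true), (.e, true), (.d, true), (.h, true), (.d, true), (.e, true), (.c, true), (.d, true), (.f, true), (.g, true), (.e, true), (.f, true)],
  W [(.f, true), (.e, true), (.b, true), (.a, true), (.c, true), (.b, true), (.d, true), (.c, true), (.e, true), (.d, true), (.h, true), (.d, true), (.e, true), (.c, true), (.d, true), (.b, true), (.c, true), (.a, true), (.b, true), (.f, true), (.i, true), (.d, true), (.c, true), (.e, true), (.d, true), (.h, true), (.d, true), (.e, true), (.c, true), (.d, true), (.b, true), (.a, true), (.c, true), (.b, true), (.d, true), (.c, true), (.e, true), (.d, true), (.h, true), (.d, true), (.e, true), (.c, true), (.d, true), (.b, true), (.c, true), (.a, true), (.b, true), (.i, true), (.f, true), (.d, true), (.c, true), (.e, true), (.d, true), (.h, true), (.d, true), (.e, true), (.c, true), (.d, true), (.e, true), (.f, true)]]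

/-- The mask of level 3. -/
def M3 : ℕ := nat_lit 0x18000000000000000000000000000000000000000000000000000000000000000000000000000000000000000000000000000000000000000000000000000000000000000000000000000000000000000000000000000000000000000000000000000000000000000000000000000000000000000000000000000000000000000000000000000000000000000000000000000000000000000000000000000000000000000000000000000000000000000000000000000000000000000000000000000000000000000000000000000000000000000000000000000000000000000000000000000000000000000000000000000000000000000000000000000000000000000000000000000000000000000000000000000000000000000000000000000000000000000000000000000000000000000000000000000000000000000000000000000000000000000000000000000000000000000000000000000000000000000000000000000000000000000000000000000000000000000000000000000000000000000000000000000000000000020000000000000000000000000000000000000000000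

theorem fix3 : ∀ r ∈ rs3, ∀ b ∈ ([59, 12, 0] : List ℕ), wordApply (sgnProg pr) r.toWord (2 ^ b) = 2 ^ b := by decide +kernel

theorem M3_eq : grow pr (rs3.map FreeGroup.toWord) 2 (2 ^ 173) = M3 := by decide +kernel

theorem M3_lt : M3 < 2 ^ 2 ^ 12 := by decide +kernel

theorem M3_cnt : sumRange M3.testBit 12 0 = 3 := by decide +kernel

theorem L3 : 3 * Nat.card (ptStab Phi ([173, 59, 12, 0] : List ℕ)) ≤ Nat.card (ptStab Phi ([59, 12, 0] : List ℕ)) :=
  card_step (M3_eq ▸ sound_ptStab hR hv rs3 fix3 2 173) M3_lt M3_cnt

/-- The words of level 4. -/
noncomputable def rs4 : List (FreeGroup Cfsg.Spor.Fi22.Gen) := [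
  W [(.i, true)],
  W [(.b, true), (.a, true), (.c, true), (.b, true), (.d, true), (.c, true), (.e, true), (.d, true), (.h, true), (.d, true), (.e, true), (.c, true), (.d, true), (.b, true), (.c, true), (.a, true), (.b, true)],
  W [(.f, true), (.e, true), (.g, true), (.f, true), (.d, true), (.c, true), (.e, true), (.d, true), (.h, true), (.d, true), (.e, true), (.c, true), (.d, true), (.f, true), (.g, true), (.e, true), (.f, true)],
  W [(.f, true), (.e, true), (.d, true), (.c, true), (.e, true), (.d, true), (.h, true), (.d, true), (.e, true), (.c, true), (.d, true), (.f, true), (.i, true), (.b, true), (.a, true), (.c, true), (.b, true), (.d, true), (.c, true), (.e, true), (.d, true), (.h, true), (.d, true), (.e, true), (.c, true), (.d, true), (.b, true), (.c, true), (.a, true), (.b, true), (.d, true), (.c, true), (.e, true), (.d, true), (.h, true), (.d, true), (.e, true), (.c, true), (.d, true), (.i, true), (.f, true), (.b, true), (.a, true), (.c, true), (.b, true), (.d, true), (.c, true), (.e, true), (.d, true), (.h, true), (.d, true), (.e, true), (.c, true), (.d, true), (.b, true), (.c, true), (.a, true), (.b, true), (.g, true), (.f, true), (.d, true),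 (.c, true), (.e, true), (.d, true), (.h, true), (.d, true), (.e, true), (.c, true), (.d, true), (.f, true), (.g, true), (.b, true), (.a, true), (.c, true), (.b, true), (.d, true), (.c, true), (.e, true), (.d, true), (.h, true), (.d, true), (.e, true), (.c, true), (.d, true), (.b, true), (.c, true), (.a, true), (.b, true), (.f, true), (.i, true), (.d, true), (.c, true), (.e, true), (.d, true), (.h, true), (.d, true), (.e, true), (.c, true), (.d, true), (.b, true), (.a, true), (.c, true), (.b, true), (.d, true), (.c, true), (.e, true), (.d, true), (.h, true), (.d, true), (.e, true), (.c, true), (.d, true), (.b, true), (.c, true), (.a, true), (.b, true), (.i, true), (.f, true), (.d, true), (.c, true), (.e, true), (.d, true), (.h, true), (.d, true), (.e, true), (.c, true), (.d, true), (.e, true), (.f, true)],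
  W [(.f, true), (.e, true), (.d, true), (.c, true), (.e, true), (.d, true), (.h, true), (.d, true), (.e, true), (.c, true), (.d, true), (.f, true), (.i, true), (.b, true), (.a, true), (.c, true), (.b, true), (.d, true), (.c, true), (.e, true), (.d, true), (.h, true), (.d, true), (.e, true), (.c, true), (.d, true), (.b, true), (.c, true), (.a, true), (.b, true), (.d, true), (.c, true), (.e, true), (.d, true), (.h, true), (.d, true), (.e, true), (.c, true), (.d, true), (.i, true), (.f, true), (.b, true), (.a, true), (.c, true), (.b, true), (.d, true), (.c, true), (.e, true), (.d, true), (.h, true), (.d, true), (.e, true), (.c, true), (.d, true), (.b, true), (.c, true), (.a, true), (.b, true), (.e, true), (.f, true), (.b, true), (.a, true), (.c, true), (.b, true), (.d, true), (.c, true), (.e, true), (.d, true), (.h, true), (.d, true), (.e, true), (.c, true), (.d, true), (.b, true), (.c, true), (.a, true), (.b, true), (.f, true), (.e, true), (.b, true), (.a, true), (.c, true), (.b, true), (.d, true), (.c, true), (.e, true), (.d, true), (.h, true), (.d, true), (.e, true), (.c, true), (.d, true), (.b, true), (.c, true), (.a, true), (.b, true), (.f, true), (.i, true),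 (.d, true), (.c, true), (.e, true), (.d, true), (.h, true), (.d, true), (.e, true), (.c, true), (.d, true), (.b, true), (.a, true), (.c, true), (.b, true), (.d, true), (.c, true), (.e, true), (.d, true), (.h, true), (.d, true), (.e, true), (.c, true), (.d, true), (.b, true), (.c, true), (.a, true), (.b, true), (.i, true), (.f, true), (.d, true), (.c, true), (.e, true), (.d, true), (.h, true), (.d, true), (.e, true), (.c, true), (.d, true), (.e, true), (.f, true)],
  W [(.f, true), (.e, true), (.d, true), (.c, true), (.e, true), (.d, true), (.h, true), (.d, true), (.e, true), (.c, true), (.d, true), (.f, true), (.i, true), (.b, true), (.a, true), (.c, true), (.b, true), (.d, true), (.c, true), (.e, true), (.d, true), (.h, true), (.d, true), (.e, true), (.c, true), (.d, true), (.b, true), (.c, true), (.a, true), (.b, true), (.d, true), (.c, true), (.e, true), (.d, true), (.h, true), (.d, true), (.e, true), (.c, true), (.d, true), (.i, true), (.f, true), (.b, true), (.a, true), (.c, true), (.b, true), (.d, true), (.c, true), (.e, true), (.d, true), (.h, true), (.d, true), (.e, true), (.c, true), (.d, true), (.b, true), (.c, true), (.a, true), (.b, true), (.d,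 true), (.c, true), (.e, true), (.d, true), (.h, true), (.d, true), (.e, true), (.c, true), (.d, true), (.f, true), (.i, true), (.b, true), (.a, true), (.c, true), (.b, true), (.d, true), (.c, true), (.e, true), (.d, true), (.h, true), (.d, true), (.e, true), (.c, true), (.d, true), (.b, true), (.c, true), (.a, true), (.b, true), (.d, true), (.c, true), (.e, true), (.d, true), (.h, true), (.d, true), (.e, true), (.c, true), (.d, true), (.i, true), (.f, true), (.b, true), (.a, true), (.c, true), (.b, true), (.d, true), (.c, true), (.e, true), (.d, true), (.h, true), (.d, true), (.e, true), (.c, true), (.d, true), (.b, true), (.c, true), (.a, true), (.b, true), (.g, true), (.f, true), (.d, true), (.c, true), (.e, true), (.d, true), (.h, true), (.d, true), (.e, true), (.c, true), (.d, true), (.f, true), (.g, true), (.b, true), (.a, true), (.c, true), (.b, true), (.d, true), (.c, true), (.e, true), (.d, true), (.h, true), (.d, true), (.e, true), (.c, true), (.d, true), (.b, true), (.c, true), (.a, true), (.b, true), (.f, true), (.i, true), (.d, true), (.c, true), (.e, true), (.d, true), (.h, true), (.d, true), (.e, true), (.c, true), (.d, true), (.b, true), (.a,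 true), (.c, true), (.b, true), (.d, true), (.c, true), (.e, true), (.d, true), (.h, true), (.d, true), (.e, true), (.c, true), (.d, true), (.b, true), (.c, true), (.a, true), (.b, true), (.i, true), (.f, true), (.d, true), (.c, true), (.e, true), (.d, true), (.h, true), (.d, true), (.e, true), (.c, true), (.d, true), (.b, true), (.a, true), (.c, true), (.b, true), (.d, true), (.c, true), (.e, true), (.d, true), (.h, true), (.d, true), (.e, true), (.c, true), (.d, true), (.b, true), (.c, true), (.a, true), (.b, true), (.f, true), (.i, true), (.d, true), (.c, true), (.e, true), (.d, true), (.h, true), (.d, true), (.e, true), (.c, true), (.d, true), (.b, true), (.a, true), (.c, true), (.b, true), (.d, true), (.c, true), (.e, true), (.d, true), (.h, true), (.d, true), (.e, true), (.c, true), (.d, true), (.b, true), (.c, true), (.a, true), (.b, true), (.i, true), (.f, true), (.d, true), (.c, true), (.e, true), (.d, true), (.h, true), (.d, true), (.e, true), (.c, true), (.d, true), (.e, true), (.f, true)]]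

/-- The mask of level 4. -/
def M4 : ℕ := nat_lit 0x100000000000000000000200000000000000000000000000000000000000000002000000000000000010000000000000000000000000000000000000000000000800000000000020000000000000000000000000000000000000000000000000000000000000000000000000000000000000080000000000400000400000000000000000000000000000002000000000800020000000000000000000000000000000100000000200080000000000000000000000000000000000000000000000000000000000000000080000000000000000000000000000000000000000000004000000000000000000000000000000000000000004000000100004c0000000002000000000000000000080026000000000000000000000000820480000000000000400000000000000000004040000000000000100200000000404000000008000040000014100005008000404000000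

theorem fix4 : ∀ r ∈ rs4, ∀ b ∈ ([173, 59, 12, 0] : List ℕ), wordApply (sgnProg pr) r.toWord (2 ^ b) = 2 ^ b := by decide +kernel

theorem M4_eq : grow pr (rs4.map FreeGroup.toWord) 2 (2 ^ 26) = M4 := by decide +kernel

theorem M4_lt : M4 < 2 ^ 2 ^ 12 := by decide +kernel

theorem M4_cnt : sumRange M4.testBit 12 0 = 48 := by decide +kernel

theorem L4 : 48 * Nat.card (ptStab Phi ([26, 173, 59, 12, 0] : List ℕ)) ≤ Nat.card (ptStab Phi ([173, 59, 12, 0] : List ℕ)) :=
  card_step (M4_eq ▸ sound_ptStab hR hv rs4 fix4 2 26) M4_lt M4_cnt

/-- The words of level 5. -/
noncomputable def rs5 : List (FreeGroup Cfsg.Spor.Fi22.Gen) := [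
  W [(.b, true), (.a, true), (.c, true), (.b, true), (.d, true), (.c, true), (.e, true), (.d, true), (.h, true), (.d, true), (.e, true), (.c, true), (.d, true), (.b, true), (.c, true), (.a, true), (.b, true)],
  W [(.f, true), (.e, true), (.g, true), (.f, true), (.d, true), (.c, true), (.e, true), (.d, true), (.h, true), (.d, true), (.e, true), (.c, true), (.d, true), (.f, true), (.g, true), (.e, true), (.f, true)],
  W [(.f, true), (.e, true), (.d, true), (.c, true), (.e, true), (.d, true), (.h, true), (.d, true), (.e, true), (.c, true), (.d, true), (.f, true), (.i, true), (.b, true), (.a, true), (.c, true), (.b, true), (.d, true), (.c, true), (.e, true), (.d, true), (.h, true), (.d, true), (.e, true), (.c, true), (.d, true), (.b, true), (.c, true), (.a, true), (.b, true), (.d, true), (.c, true), (.e, true), (.d, true), (.h, true), (.d, true), (.e, true), (.c, true), (.d, true), (.i, true), (.f, true), (.b, true), (.a, true), (.c, true), (.b, true), (.d, true), (.c, true), (.e, true), (.d, true), (.h, true), (.d, true), (.e, true), (.c, true), (.d, true), (.b, true), (.c, true), (.a, true), (.b, true), (.g, true), (.f, true), (.d, true), (.c, true), (.e, true),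 (.d, true), (.h, true), (.d, true), (.e, true), (.c, true), (.d, true), (.f, true), (.g, true), (.b, true), (.a, true), (.c, true), (.b, true), (.d, true), (.c, true), (.e, true), (.d, true), (.h, true), (.d, true), (.e, true), (.c, true), (.d, true), (.b, true), (.c, true), (.a, true), (.b, true), (.f, true), (.i, true), (.d, true), (.c, true), (.e, true), (.d, true), (.h, true), (.d, true), (.e, true), (.c, true), (.d, true), (.b, true), (.a, true), (.c, true), (.b, true), (.d, true), (.c, true), (.e, true), (.d, true), (.h, true), (.d, true), (.e, true), (.c, true), (.d, true), (.b, true), (.c, true), (.a, true), (.b, true), (.i, true), (.f, true), (.d, true), (.c, true), (.e, true), (.d, true), (.h, true), (.d, true), (.e, true), (.c, true), (.d, true), (.e, true), (.f, true)],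
  W [(.f, true), (.e, true), (.d, true), (.c, true), (.e, true), (.d, true), (.h, true), (.d, true), (.e, true), (.c, true), (.d, true), (.f, true), (.i, true), (.b, true), (.a, true), (.c, true), (.b, true), (.d, true), (.c, true), (.e, true), (.d, true), (.h, true), (.d, true), (.e, true), (.c, true), (.d, true), (.b, true), (.c, true), (.a, true), (.b, true), (.d, true), (.c, true), (.e, true), (.d, true), (.h, true), (.d, true), (.e, true), (.c, true), (.d, true), (.i, true), (.f, true), (.b, true), (.a, true), (.c, true), (.b, true), (.d, true), (.c, true), (.e, true), (.d, true), (.h, true), (.d, true), (.e, true), (.c, true), (.d, true), (.b, true), (.c, true), (.a, true), (.b, true), (.e, true), (.f, true), (.b, true), (.a, true), (.c, true), (.b, true), (.d, true), (.c, true), (.e, true), (.d, true), (.h, true), (.d, true), (.e, true), (.c, true), (.d, true), (.b, true), (.c, true), (.a, true), (.b, true), (.f, true), (.e, true), (.b, true), (.a, true), (.c, true), (.b, true), (.d, true), (.c, true), (.e, true), (.d, true), (.h, true), (.d, true), (.e, true), (.c, true), (.d, true), (.b, true), (.c, true), (.a, true), (.b, true), (.f, true), (.i, true),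 (.d, true), (.c, true), (.e, true), (.d, true), (.h, true), (.d, true), (.e, true), (.c, true), (.d, true), (.b, true), (.a, true), (.c, true), (.b, true), (.d, true), (.c, true), (.e, true), (.d, true), (.h, true), (.d, true), (.e, true), (.c, true), (.d, true), (.b, true), (.c, true), (.a, true), (.b, true), (.i, true), (.f, true), (.d, true), (.c, true), (.e, true), (.d, true), (.h, true), (.d, true), (.e, true), (.c, true), (.d, true), (.e, true), (.f, true)],
  W [(.f, true), (.e, true), (.d, true), (.c, true), (.e, true), (.d, true), (.h, true), (.d, true), (.e, true), (.c, true), (.d, true), (.f, true), (.i, true), (.b, true), (.a, true), (.c, true), (.b, true), (.d, true), (.c, true), (.e, true), (.d, true), (.h, true), (.d, true), (.e, true), (.c, true), (.d, true), (.b, true), (.c, true), (.a, true), (.b, true), (.d, true), (.c, true), (.e, true), (.d, true), (.h, true), (.d, true), (.e, true), (.c, true), (.d, true), (.i, true), (.f, true), (.b, true), (.a, true), (.c, true), (.b, true), (.d, true), (.c, true), (.e, true), (.d, true), (.h, true), (.d, true), (.e, true), (.c, true), (.d, true), (.b, true), (.c, true), (.a, true), (.b, true), (.d,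 true), (.c, true), (.e, true), (.d, true), (.h, true), (.d, true), (.e, true), (.c, true), (.d, true), (.f, true), (.i, true), (.b, true), (.a, true), (.c, true), (.b, true), (.d, true), (.c, true), (.e, true), (.d, true), (.h, true), (.d, true), (.e, true), (.c, true), (.d, true), (.b, true), (.c, true), (.a, true), (.b, true), (.d, true), (.c, true), (.e, true), (.d, true), (.h, true), (.d, true), (.e, true), (.c, true), (.d, true), (.i, true), (.f, true), (.b, true), (.a, true), (.c, true), (.b, true), (.d, true), (.c, true), (.e, true), (.d, true), (.h, true), (.d, true), (.e, true), (.c, true), (.d, true), (.b, true), (.c, true), (.a, true), (.b, true), (.g, true), (.f, true), (.d, true), (.c, true), (.e, true), (.d, true), (.h, true), (.d, true), (.e, true), (.c, true), (.d, true), (.f, true), (.g, true), (.b, true), (.a, true), (.c, true), (.b, true), (.d, true), (.c, true), (.e, true), (.d, true), (.h, true), (.d, true), (.e, true), (.c, true), (.d, true), (.b, true), (.c, true), (.a, true), (.b, true), (.f, true), (.i, true), (.d, true), (.c, true), (.e, true), (.d, true), (.h, true), (.d, true), (.e, true), (.c, true), (.d, true), (.b, true), (.a,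 true), (.c, true), (.b, true), (.d, true), (.c, true), (.e, true), (.d, true), (.h, true), (.d, true), (.e, true), (.c, true), (.d, true), (.b, true), (.c, true), (.a, true), (.b, true), (.i, true), (.f, true), (.d, true), (.c, true), (.e, true), (.d, true), (.h, true), (.d, true), (.e, true), (.c, true), (.d, true), (.b, true), (.a, true), (.c, true), (.b, true), (.d, true), (.c, true), (.e, true), (.d, true), (.h, true), (.d, true), (.e, true), (.c, true), (.d, true), (.b, true), (.c, true), (.a, true), (.b, true), (.f, true), (.i, true), (.d, true), (.c, true), (.e, true), (.d, true), (.h, true), (.d, true), (.e, true), (.c, true), (.d, true), (.b, true), (.a, true), (.c, true), (.b, true), (.d, true), (.c, true), (.e, true), (.d, true), (.h, true), (.d, true), (.e, true), (.c, true), (.d, true), (.b, true), (.c, true), (.a, true), (.b, true), (.i, true), (.f, true), (.d, true), (.c, true), (.e, true), (.d, true), (.h, true), (.d, true), (.e, true), (.c, true), (.d, true), (.e, true), (.f, true)],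
  W [(.i, true), (.b, true), (.a, true), (.c, true), (.b, true), (.d, true), (.c, true), (.e, true), (.d, true), (.h, true), (.d, true), (.e, true), (.c, true), (.d, true), (.b, true), (.c, true), (.a, true), (.b, true), (.f, true), (.e, true), (.g, true), (.f, true), (.d, true), (.c, true), (.e, true), (.d, true), (.h, true), (.d, true), (.e, true), (.c, true), (.d, true), (.f, true), (.g, true), (.e, true), (.f, true), (.i, true), (.f, true), (.e, true), (.d, true), (.c, true), (.e, true), (.d, true), (.h, true), (.d, true), (.e, true), (.c, true), (.d, true), (.f, true), (.i, true), (.b, true), (.a, true), (.c, true), (.b, true), (.d, true), (.c, true), (.e, true), (.d, true), (.h, true), (.d, true), (.e, true), (.c, true), (.d, true), (.b, true), (.c, true), (.a, true), (.b, true), (.d, true), (.c, true), (.e, true), (.d, true), (.h, true), (.d, true), (.e, true), (.c, true), (.d, true), (.i, true), (.f, true), (.b, true), (.a, true), (.c, true), (.b, true), (.d, true), (.c, true), (.e, true), (.d, true), (.h, true), (.d, true), (.e, true), (.c, true), (.d, true), (.b, true), (.c, true), (.a, true), (.b, true), (.g, true), (.f, true), (.d, true), (.c, true),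 (.e, true), (.d, true), (.h, true), (.d, true), (.e, true), (.c, true), (.d, true), (.f, true), (.g, true), (.b, true), (.a, true), (.c, true), (.b, true), (.d, true), (.c, true), (.e, true), (.d, true), (.h, true), (.d, true), (.e, true), (.c, true), (.d, true), (.b, true), (.c, true), (.a, true), (.b, true), (.f, true), (.i, true), (.d, true), (.c, true), (.e, true), (.d, true), (.h, true), (.d, true), (.e, true), (.c, true), (.d, true), (.b, true), (.a, true), (.c, true), (.b, true), (.d, true), (.c, true), (.e, true), (.d, true), (.h, true), (.d, true), (.e, true), (.c, true), (.d, true), (.b, true), (.c, true), (.a, true), (.b, true), (.i, true), (.f, true), (.d, true), (.c, true), (.e, true), (.d, true), (.h, true), (.d, true), (.e, true), (.c, true), (.d, true), (.e, true), (.f, true), (.i, true), (.f, true), (.e, true), (.g, true), (.f, true), (.d, true), (.c, true), (.e, true), (.d, true), (.h, true), (.d, true), (.e, true), (.c, true), (.d, true), (.f, true), (.g, true), (.e, true), (.f, true), (.b, true), (.a, true), (.c, true), (.b, true), (.d, true), (.c, true), (.e, true), (.d, true), (.h, true), (.d, true), (.e, true), (.c, true), (.d, true),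 (.b, true), (.c, true), (.a, true), (.b, true), (.i, true)],
  W [(.i, true), (.b, true), (.a, true), (.c, true), (.b, true), (.d, true), (.c, true), (.e, true), (.d, true), (.h, true), (.d, true), (.e, true), (.c, true), (.d, true), (.b, true), (.c, true), (.a, true), (.b, true), (.f, true), (.e, true), (.g, true), (.f, true), (.d, true), (.c, true), (.e, true), (.d, true), (.h, true), (.d, true), (.e, true), (.c, true), (.d, true), (.f, true), (.g, true), (.e, true), (.f, true), (.i, true), (.f, true), (.e, true), (.d, true), (.c, true), (.e, true), (.d, true), (.h, true), (.d, true), (.e, true), (.c, true), (.d, true), (.f, true), (.i, true), (.b, true), (.a, true), (.c, true), (.b, true), (.d, true), (.c, true), (.e, true), (.d, true), (.h, true), (.d, true), (.e, true), (.c, true), (.d, true), (.b, true), (.c, true), (.a, true), (.b, true), (.d, true), (.c, true), (.e, true), (.d, true), (.h, true), (.d, true), (.e, true), (.c, true), (.d, true), (.i, true), (.f, true), (.b, true), (.a, true), (.c, true), (.b, true), (.d, true), (.c, true), (.e, true), (.d, true), (.h, true), (.d, true), (.e, true), (.c, true), (.d, true), (.b, true), (.c, true), (.a,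 true), (.b, true), (.e, true), (.f, true), (.b, true), (.a, true), (.c, true), (.b, true), (.d, true), (.c, true), (.e, true), (.d, true), (.h, true), (.d, true), (.e, true), (.c, true), (.d, true), (.b, true), (.c, true), (.a, true), (.b, true), (.f, true), (.e, true), (.b, true), (.a, true), (.c, true), (.b, true), (.d, true), (.c, true), (.e, true), (.d, true), (.h, true), (.d, true), (.e, true), (.c, true), (.d, true), (.b, true), (.c, true), (.a, true), (.b, true), (.f, true), (.i, true), (.d, true), (.c, true), (.e, true), (.d, true), (.h, true), (.d, true), (.e, true), (.c, true), (.d, true), (.b, true), (.a, true), (.c, true), (.b, true), (.d, true), (.c, true), (.e, true), (.d, true), (.h, true), (.d, true), (.e, true), (.c, true), (.d, true), (.b, true), (.c, true), (.a, true), (.b, true), (.i, true), (.f, true), (.d, true), (.c, true), (.e, true), (.d, true), (.h, true), (.d, true), (.e, true), (.c, true), (.d, true), (.e, true), (.f, true), (.i, true), (.f, true), (.e, true), (.g, true), (.f, true), (.d, true), (.c, true), (.e, true), (.d, true), (.h, true), (.d, true), (.e, true), (.c, true), (.d, true), (.f, true), (.g, true), (.e, true), (.f,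 true), (.b, true), (.a, true), (.c, true), (.b, true), (.d, true), (.c, true), (.e, true), (.d, true), (.h, true), (.d, true), (.e, true), (.c, true), (.d, true), (.b, true), (.c, true), (.a, true), (.b, true), (.i, true)],
  W [(.i, true), (.b, true), (.a, true), (.c, true), (.b, true), (.d, true), (.c, true), (.e, true), (.d, true), (.h, true), (.d, true), (.e, true), (.c, true), (.d, true), (.b, true), (.c, true), (.a, true), (.b, true), (.f, true), (.e, true), (.g, true), (.f, true), (.d, true), (.c, true), (.e, true), (.d, true), (.h, true), (.d, true), (.e, true), (.c, true), (.d, true), (.f, true), (.g, true), (.e, true), (.f, true), (.i, true), (.f, true), (.e, true), (.d, true), (.c, true), (.e, true), (.d, true), (.h, true), (.d, true), (.e, true), (.c, true), (.d, true), (.f, true), (.i, true), (.b, true), (.a, true), (.c, true), (.b, true), (.d, true), (.c, true), (.e, true), (.d, true), (.h, true), (.d, true), (.e, true), (.c, true), (.d, true), (.b, true), (.c, true), (.a, true), (.b, true), (.d, true), (.c, true), (.e, true), (.d, true), (.h, true), (.d, true), (.e, true), (.c, true), (.d, true), (.i, true), (.f, true), (.b, true), (.a, true),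 (.c, true), (.b, true), (.d, true), (.c, true), (.e, true), (.d, true), (.h, true), (.d, true), (.e, true), (.c, true), (.d, true), (.b, true), (.c, true), (.a, true), (.b, true), (.d, true), (.c, true), (.e, true), (.d, true), (.h, true), (.d, true), (.e, true), (.c, true), (.d, true), (.f, true), (.i, true), (.b, true), (.a, true), (.c, true), (.b, true), (.d, true), (.c, true), (.e, true), (.d, true), (.h, true), (.d, true), (.e, true), (.c, true), (.d, true), (.b, true), (.c, true), (.a, true), (.b, true), (.d, true), (.c, true), (.e, true), (.d, true), (.h, true), (.d, true), (.e, true), (.c, true), (.d, true), (.i, true), (.f, true), (.b, true), (.a, true), (.c, true), (.b, true), (.d, true), (.c, true), (.e, true), (.d, true), (.h, true), (.d, true), (.e, true), (.c, true), (.d, true), (.b, true), (.c, true), (.a, true), (.b, true), (.g, true), (.f, true), (.d, true), (.c, true), (.e, true), (.d, true), (.h, true), (.d, true), (.e, true), (.c, true), (.d, true), (.f, true), (.g, true), (.b, true), (.a, true), (.c, true), (.b, true), (.d, true), (.c, true), (.e, true), (.d, true), (.h, true), (.d, true), (.e, true), (.c, true), (.d, true), (.b, true),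 (.c, true), (.a, true), (.b, true), (.f, true), (.i, true), (.d, true), (.c, true), (.e, true), (.d, true), (.h, true), (.d, true), (.e, true), (.c, true), (.d, true), (.b, true), (.a, true), (.c, true), (.b, true), (.d, true), (.c, true), (.e, true), (.d, true), (.h, true), (.d, true), (.e, true), (.c, true), (.d, true), (.b, true), (.c, true), (.a, true), (.b, true), (.i, true), (.f, true), (.d, true), (.c, true), (.e, true), (.d, true), (.h, true), (.d, true), (.e, true), (.c, true), (.d, true), (.b, true), (.a, true), (.c, true), (.b, true), (.d, true), (.c, true), (.e, true), (.d, true), (.h, true), (.d, true), (.e, true), (.c, true), (.d, true), (.b, true), (.c, true), (.a, true), (.b, true), (.f, true), (.i, true), (.d, true), (.c, true), (.e, true), (.d, true), (.h, true), (.d, true), (.e, true), (.c, true), (.d, true), (.b, true), (.a, true), (.c, true), (.b, true), (.d, true), (.c, true), (.e, true), (.d, true), (.h, true), (.d, true), (.e, true), (.c, true), (.d, true), (.b, true), (.c, true), (.a, true), (.b, true), (.i, true), (.f, true), (.d, true), (.c, true), (.e, true), (.d, true), (.h, true), (.d, true), (.e, true), (.c, true), (.d, true),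 (.e, true), (.f, true), (.i, true), (.f, true), (.e, true), (.g, true), (.f, true), (.d, true), (.c, true), (.e, true), (.d, true), (.h, true), (.d, true), (.e, true), (.c, true), (.d, true), (.f, true), (.g, true), (.e, true), (.f, true), (.b, true), (.a, true), (.c, true), (.b, true), (.d, true), (.c, true), (.e, true), (.d, true), (.h, true), (.d, true), (.e, true), (.c, true), (.d, true), (.b, true), (.c, true), (.a, true), (.b, true), (.i, true)],
  W [(.i, true), (.f, true), (.e, true), (.d, true), (.c, true), (.e, true), (.d, true), (.h, true), (.d, true), (.e, true), (.c, true), (.d, true), (.f, true), (.i, true), (.b, true), (.a, true), (.c, true), (.b, true), (.d, true), (.c, true), (.e, true), (.d, true), (.h, true), (.d, true), (.e, true), (.c, true), (.d, true), (.b, true), (.c, true), (.a, true), (.b, true), (.d, true), (.c, true), (.e, true), (.d, true), (.h, true), (.d, true), (.e, true), (.c, true), (.d, true), (.i, true), (.f, true), (.b, true), (.a, true), (.c, true), (.b, true), (.d, true), (.c, true), (.e, true), (.d, true), (.h, true), (.d, true), (.e, true), (.c, true), (.d, true), (.b, true), (.c, true), (.a, true), (.b, true), (.g,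 true), (.f, true), (.d, true), (.c, true), (.e, true), (.d, true), (.h, true), (.d, true), (.e, true), (.c, true), (.d, true), (.f, true), (.g, true), (.e, true), (.f, true), (.b, true), (.a, true), (.c, true), (.b, true), (.d, true), (.c, true), (.e, true), (.d, true), (.h, true), (.d, true), (.e, true), (.c, true), (.d, true), (.b, true), (.c, true), (.a, true), (.b, true), (.f, true), (.e, true), (.b, true), (.a, true), (.c, true), (.b, true), (.d, true), (.c, true), (.e, true), (.d, true), (.h, true), (.d, true), (.e, true), (.c, true), (.d, true), (.b, true), (.c, true), (.a, true), (.b, true), (.f, true), (.i, true), (.d, true), (.c, true), (.e, true), (.d, true), (.h, true), (.d, true), (.e, true), (.c, true), (.d, true), (.b, true), (.a, true), (.c, true), (.b, true), (.d, true), (.c, true), (.e, true), (.d, true), (.h, true), (.d, true), (.e, true), (.c, true), (.d, true), (.b, true), (.c, true), (.a, true), (.b, true), (.i, true), (.f, true), (.d, true), (.c, true), (.e, true), (.d, true), (.h, true), (.d, true), (.e, true), (.c, true), (.d, true), (.e, true), (.f, true), (.i, true), (.b, true), (.a, true), (.c, true), (.b, true), (.d, true), (.c,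 true), (.e, true), (.d, true), (.h, true), (.d, true), (.e, true), (.c, true), (.d, true), (.b, true), (.c, true), (.a, true), (.b, true), (.i, true), (.f, true), (.e, true), (.d, true), (.c, true), (.e, true), (.d, true), (.h, true), (.d, true), (.e, true), (.c, true), (.d, true), (.f, true), (.i, true), (.b, true), (.a, true), (.c, true), (.b, true), (.d, true), (.c, true), (.e, true), (.d, true), (.h, true), (.d, true), (.e, true), (.c, true), (.d, true), (.b, true), (.c, true), (.a, true), (.b, true), (.d, true), (.c, true), (.e, true), (.d, true), (.h, true), (.d, true), (.e, true), (.c, true), (.d, true), (.i, true), (.f, true), (.b, true), (.a, true), (.c, true), (.b, true), (.d, true), (.c, true), (.e, true), (.d, true), (.h, true), (.d, true), (.e, true), (.c, true), (.d, true), (.b, true), (.c, true), (.a, true), (.b, true), (.e, true), (.f, true), (.b, true), (.a, true), (.c, true), (.b, true), (.d, true), (.c, true), (.e, true), (.d, true), (.h, true), (.d, true), (.e, true), (.c, true), (.d, true), (.b, true), (.c, true), (.a, true), (.b, true), (.f, true), (.e, true), (.g, true), (.f, true), (.d, true), (.c, true), (.e, true), (.d, true), (.h,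 true), (.d, true), (.e, true), (.c, true), (.d, true), (.f, true), (.g, true), (.b, true), (.a, true), (.c, true), (.b, true), (.d, true), (.c, true), (.e, true), (.d, true), (.h, true), (.d, true), (.e, true), (.c, true), (.d, true), (.b, true), (.c, true), (.a, true), (.b, true), (.f, true), (.i, true), (.d, true), (.c, true), (.e, true), (.d, true), (.h, true), (.d, true), (.e, true), (.c, true), (.d, true), (.b, true), (.a, true), (.c, true), (.b, true), (.d, true), (.c, true), (.e, true), (.d, true), (.h, true), (.d, true), (.e, true), (.c, true), (.d, true), (.b, true), (.c, true), (.a, true), (.b, true), (.i, true), (.f, true), (.d, true), (.c, true), (.e, true), (.d, true), (.h, true), (.d, true), (.e, true), (.c, true), (.d, true), (.e, true), (.f, true), (.i, true)],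
  W [(.i, true), (.f, true), (.e, true), (.g, true), (.f, true), (.d, true), (.c, true), (.e, true), (.d, true), (.h, true), (.d, true), (.e, true), (.c, true), (.d, true), (.f, true), (.g, true), (.d, true), (.c, true), (.e, true), (.d, true), (.h, true), (.d, true), (.e, true), (.c, true), (.d, true), (.f, true), (.i, true), (.b, true), (.a, true), (.c, true), (.b, true), (.d, true), (.c, true), (.e, true), (.d, true), (.h, true), (.d, true), (.e, true), (.c, true), (.d, true), (.b, true), (.c, true), (.a, true), (.b, true), (.d, true), (.c, true), (.e, true), (.d, true), (.h, true), (.d, true), (.e, true), (.c, true), (.d, true), (.i, true), (.f, true), (.b, true), (.a, true), (.c, true), (.b, true), (.d, true), (.c, true), (.e, true), (.d, true), (.h, true), (.d, true), (.e, true), (.c, true), (.d, true), (.b, true), (.c, true), (.a, true), (.b, true), (.g, true), (.f, true), (.d, true), (.c, true), (.e, true), (.d, true), (.h, true), (.d, true), (.e, true), (.c, true), (.d, true), (.f, true), (.g, true), (.b, true), (.a, true), (.c, true), (.b, true), (.d, true), (.c, true), (.e, true), (.d, true), (.h, true), (.d, true), (.e, true), (.c, true), (.d, true),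 (.b, true), (.c, true), (.a, true), (.b, true), (.f, true), (.i, true), (.d, true), (.c, true), (.e, true), (.d, true), (.h, true), (.d, true), (.e, true), (.c, true), (.d, true), (.b, true), (.a, true), (.c, true), (.b, true), (.d, true), (.c, true), (.e, true), (.d, true), (.h, true), (.d, true), (.e, true), (.c, true), (.d, true), (.b, true), (.c, true), (.a, true), (.b, true), (.i, true), (.f, true), (.d, true), (.c, true), (.e, true), (.d, true), (.h, true), (.d, true), (.e, true), (.c, true), (.d, true), (.e, true), (.f, true), (.i, true), (.f, true), (.e, true), (.d, true), (.c, true), (.e, true), (.d, true), (.h, true), (.d, true), (.e, true), (.c, true), (.d, true), (.f, true), (.i, true), (.b, true), (.a, true), (.c, true), (.b, true), (.d, true), (.c, true), (.e, true), (.d, true), (.h, true), (.d, true), (.e, true), (.c, true), (.d, true), (.b, true), (.c, true), (.a, true), (.b, true), (.d, true), (.c, true), (.e, true), (.d, true), (.h, true), (.d, true), (.e, true), (.c, true), (.d, true), (.i, true), (.f, true), (.b, true), (.a, true), (.c, true), (.b, true), (.d, true), (.c, true), (.e, true), (.d, true), (.h, true), (.d, true), (.e, true),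 (.c, true), (.d, true), (.b, true), (.c, true), (.a, true), (.b, true), (.d, true), (.c, true), (.e, true), (.d, true), (.h, true), (.d, true), (.e, true), (.c, true), (.d, true), (.f, true), (.i, true), (.b, true), (.a, true), (.c, true), (.b, true), (.d, true), (.c, true), (.e, true), (.d, true), (.h, true), (.d, true), (.e, true), (.c, true), (.d, true), (.b, true), (.c, true), (.a, true), (.b, true), (.d, true), (.c, true), (.e, true), (.d, true), (.h, true), (.d, true), (.e, true), (.c, true), (.d, true), (.i, true), (.f, true), (.b, true), (.a, true), (.c, true), (.b, true), (.d, true), (.c, true), (.e, true), (.d, true), (.h, true), (.d, true), (.e, true), (.c, true), (.d, true), (.b, true), (.c, true), (.a, true), (.b, true), (.g, true), (.f, true), (.d, true), (.c, true), (.e, true), (.d, true), (.h, true), (.d, true), (.e, true), (.c, true), (.d, true), (.f, true), (.g, true), (.b, true), (.a, true), (.c, true), (.b, true), (.d, true), (.c, true), (.e, true), (.d, true), (.h, true), (.d, true), (.e, true), (.c, true), (.d, true), (.b, true), (.c, true), (.a, true), (.b, true), (.f, true), (.i, true), (.d, true), (.c, true), (.e, true), (.d, true),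 (.h, true), (.d, true), (.e, true), (.c, true), (.d, true), (.b, true), (.a, true), (.c, true), (.b, true), (.d, true), (.c, true), (.e, true), (.d, true), (.h, true), (.d, true), (.e, true), (.c, true), (.d, true), (.b, true), (.c, true), (.a, true), (.b, true), (.i, true), (.f, true), (.d, true), (.c, true), (.e, true), (.d, true), (.h, true), (.d, true), (.e, true), (.c, true), (.d, true), (.b, true), (.a, true), (.c, true), (.b, true), (.d, true), (.c, true), (.e, true), (.d, true), (.h, true), (.d, true), (.e, true), (.c, true), (.d, true), (.b, true), (.c, true), (.a, true), (.b, true), (.f, true), (.i, true), (.d, true), (.c, true), (.e, true), (.d, true), (.h, true), (.d, true), (.e, true), (.c, true), (.d, true), (.b, true), (.a, true), (.c, true), (.b, true), (.d, true), (.c, true), (.e, true), (.d, true), (.h, true), (.d, true), (.e, true), (.c, true), (.d, true), (.b, true), (.c, true), (.a, true), (.b, true), (.i, true), (.f, true), (.d, true), (.c, true), (.e, true), (.d, true), (.h, true), (.d, true), (.e, true), (.c, true), (.d, true), (.e, true), (.f, true), (.i, true), (.f, true), (.e, true), (.d, true), (.c, true), (.e, true), (.d, true),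 (.h, true), (.d, true), (.e, true), (.c, true), (.d, true), (.f, true), (.i, true), (.b, true), (.a, true), (.c, true), (.b, true), (.d, true), (.c, true), (.e, true), (.d, true), (.h, true), (.d, true), (.e, true), (.c, true), (.d, true), (.b, true), (.c, true), (.a, true), (.b, true), (.d, true), (.c, true), (.e, true), (.d, true), (.h, true), (.d, true), (.e, true), (.c, true), (.d, true), (.i, true), (.f, true), (.b, true), (.a, true), (.c, true), (.b, true), (.d, true), (.c, true), (.e, true), (.d, true), (.h, true), (.d, true), (.e, true), (.c, true), (.d, true), (.b, true), (.c, true), (.a, true), (.b, true), (.g, true), (.f, true), (.d, true), (.c, true), (.e, true), (.d, true), (.h, true), (.d, true), (.e, true), (.c, true), (.d, true), (.f, true), (.g, true), (.b, true), (.a, true), (.c, true), (.b, true), (.d, true), (.c, true), (.e, true), (.d, true), (.h, true), (.d, true), (.e, true), (.c, true), (.d, true), (.b, true), (.c, true), (.a, true), (.b, true), (.f, true), (.i, true), (.d, true), (.c, true), (.e, true), (.d, true), (.h, true), (.d, true), (.e, true), (.c, true), (.d, true), (.b, true), (.a, true), (.c, true), (.b, true), (.d, true),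 (.c, true), (.e, true), (.d, true), (.h, true), (.d, true), (.e, true), (.c, true), (.d, true), (.b, true), (.c, true), (.a, true), (.b, true), (.i, true), (.f, true), (.d, true), (.c, true), (.e, true), (.d, true), (.h, true), (.d, true), (.e, true), (.c, true), (.d, true), (.g, true), (.f, true), (.d, true), (.c, true), (.e, true), (.d, true), (.h, true), (.d, true), (.e, true), (.c, true), (.d, true), (.f, true), (.g, true), (.e, true), (.f, true), (.i, true)]]

/-- The mask of level 5. -/
def M5 : ℕ := nat_lit 0x2200000000000000000000000000200000000000000001000000000000000000000000000000000000000000000000000000000000000000000000000000000000000000000000000000000000000000000000000000000000000000000000000000000000000000000800000000000000008000000000000000000000000000000000000000000000a00000000000480000000000000000000000000000000000000000000008000000008000000000000000000000000000000000000000000000000000000000000000080000000000000000000000000000000000000000000000420000000000000000000000000000000000000000000000100000000000000000000000000000000000000000000000000000000000000000000000000000000000000000000000000000000000000000000000000000000000000000000000000000000000000000000000000000000000000000000004000000020000000000000000004000001000000000000000000000000000000000000000000000000000020020000802000000000000000000108000486006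

theorem fix5 : ∀ r ∈ rs5, ∀ b ∈ ([26, 173, 59, 12, 0] : List ℕ), wordApply (sgnProg pr) r.toWord (2 ^ b) = 2 ^ b := by decide +kernel

theorem M5_eq : grow pr (rs5.map FreeGroup.toWord) 1 (2 ^ 1) = M5 := by decide +kernel

theorem M5_lt : M5 < 2 ^ 2 ^ 12 := by decide +kernel

theorem M5_cnt : sumRange M5.testBit 12 0 = 32 := by decide +kernel

theorem L5 : 32 * Nat.card (ptStab Phi ([1, 26, 173, 59, 12, 0] : List ℕ)) ≤ Nat.card (ptStab Phi ([26, 173, 59, 12, 0] : List ℕ)) :=
  card_step (M5_eq ▸ sound_ptStab hR hv rs5 fix5 1 1) M5_lt M5_cnt

/-- The words of level 6. -/
noncomputable def rs6 : List (FreeGroup Cfsg.Spor.Fi22.Gen) := [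
  W [(.f, true), (.e, true), (.d, true), (.c, true), (.e, true), (.d, true), (.h, true), (.d, true), (.e, true), (.c, true), (.d, true), (.f, true), (.i, true), (.b, true), (.a, true), (.c, true), (.b, true), (.d, true), (.c, true), (.e, true), (.d, true), (.h, true), (.d, true), (.e, true), (.c, true), (.d, true), (.b, true), (.c, true), (.a, true), (.b, true), (.d, true), (.c, true), (.e, true), (.d, true), (.h, true), (.d, true), (.e, true), (.c, true), (.d, true), (.i, true), (.f, true), (.b, true), (.a, true), (.c, true), (.b, true), (.d, true), (.c, true), (.e, true), (.d, true), (.h, true), (.d, true), (.e, true), (.c, true), (.d, true), (.b, true), (.c, true), (.a, true), (.b, true), (.g, true), (.f, true), (.d, true), (.c, true), (.e, true), (.d, true), (.h, true), (.d, true), (.e, true), (.c, true), (.d, true), (.f, true), (.g, true), (.b, true), (.a, true), (.c, true), (.b, true), (.d, true), (.c, true), (.e, true), (.d, true), (.h, true), (.d, true), (.e, true), (.c, true), (.d, true), (.b, true), (.c, true), (.a, true), (.b, true), (.f, true), (.i, true), (.d, true), (.c, true), (.e, true), (.d, true), (.h, true), (.d, true), (.e, true), (.c, true),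 (.d, true), (.b, true), (.a, true), (.c, true), (.b, true), (.d, true), (.c, true), (.e, true), (.d, true), (.h, true), (.d, true), (.e, true), (.c, true), (.d, true), (.b, true), (.c, true), (.a, true), (.b, true), (.i, true), (.f, true), (.d, true), (.c, true), (.e, true), (.d, true), (.h, true), (.d, true), (.e, true), (.c, true), (.d, true), (.e, true), (.f, true)],
  W [(.i, true), (.f, true), (.e, true), (.d, true), (.c, true), (.e, true), (.d, true), (.h, true), (.d, true), (.e, true), (.c, true), (.d, true), (.f, true), (.i, true), (.b, true), (.a, true), (.c, true), (.b, true), (.d, true), (.c, true), (.e, true), (.d, true), (.h, true), (.d, true), (.e, true), (.c, true), (.d, true), (.b, true), (.c, true), (.a, true), (.b, true), (.d, true), (.c, true), (.e, true), (.d, true), (.h, true), (.d, true), (.e, true), (.c, true), (.d, true), (.i, true), (.f, true), (.b, true), (.a, true), (.c, true), (.b, true), (.d, true), (.c, true), (.e, true), (.d, true), (.h, true), (.d, true), (.e, true), (.c, true), (.d, true), (.b, true), (.c, true), (.a, true), (.b, true), (.g, true), (.f, true), (.d, true), (.c, true), (.e, true), (.d, true), (.h, true), (.d,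 true), (.e, true), (.c, true), (.d, true), (.f, true), (.g, true), (.e, true), (.f, true), (.b, true), (.a, true), (.c, true), (.b, true), (.d, true), (.c, true), (.e, true), (.d, true), (.h, true), (.d, true), (.e, true), (.c, true), (.d, true), (.b, true), (.c, true), (.a, true), (.b, true), (.f, true), (.e, true), (.b, true), (.a, true), (.c, true), (.b, true), (.d, true), (.c, true), (.e, true), (.d, true), (.h, true), (.d, true), (.e, true), (.c, true), (.d, true), (.b, true), (.c, true), (.a, true), (.b, true), (.f, true), (.i, true), (.d, true), (.c, true), (.e, true), (.d, true), (.h, true), (.d, true), (.e, true), (.c, true), (.d, true), (.b, true), (.a, true), (.c, true), (.b, true), (.d, true), (.c, true), (.e, true), (.d, true), (.h, true), (.d, true), (.e, true), (.c, true), (.d, true), (.b, true), (.c, true), (.a, true), (.b, true), (.i, true), (.f, true), (.d, true), (.c, true), (.e, true), (.d, true), (.h, true), (.d, true), (.e, true), (.c, true), (.d, true), (.e, true), (.f, true), (.i, true), (.b, true), (.a, true), (.c, true), (.b, true), (.d, true), (.c, true), (.e, true), (.d, true), (.h, true), (.d, true), (.e, true), (.c, true), (.d,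 true), (.b, true), (.c, true), (.a, true), (.b, true), (.i, true), (.f, true), (.e, true), (.d, true), (.c, true), (.e, true), (.d, true), (.h, true), (.d, true), (.e, true), (.c, true), (.d, true), (.f, true), (.i, true), (.b, true), (.a, true), (.c, true), (.b, true), (.d, true), (.c, true), (.e, true), (.d, true), (.h, true), (.d, true), (.e, true), (.c, true), (.d, true), (.b, true), (.c, true), (.a, true), (.b, true), (.d, true), (.c, true), (.e, true), (.d, true), (.h, true), (.d, true), (.e, true), (.c, true), (.d, true), (.i, true), (.f, true), (.b, true), (.a, true), (.c, true), (.b, true), (.d, true), (.c, true), (.e, true), (.d, true), (.h, true), (.d, true), (.e, true), (.c, true), (.d, true), (.b, true), (.c, true), (.a, true), (.b, true), (.e, true), (.f, true), (.b, true), (.a, true), (.c, true), (.b, true), (.d, true), (.c, true), (.e, true), (.d, true), (.h, true), (.d, true), (.e, true), (.c, true), (.d, true), (.b, true), (.c, true), (.a, true), (.b, true), (.f, true), (.e, true), (.g, true), (.f, true), (.d, true), (.c, true), (.e, true), (.d, true), (.h, true), (.d, true), (.e, true), (.c, true), (.d, true), (.f, true), (.g, true), (.b,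 true), (.a, true), (.c, true), (.b, true), (.d, true), (.c, true), (.e, true), (.d, true), (.h, true), (.d, true), (.e, true), (.c, true), (.d, true), (.b, true), (.c, true), (.a, true), (.b, true), (.f, true), (.i, true), (.d, true), (.c, true), (.e, true), (.d, true), (.h, true), (.d, true), (.e, true), (.c, true), (.d, true), (.b, true), (.a, true), (.c, true), (.b, true), (.d, true), (.c, true), (.e, true), (.d, true), (.h, true), (.d, true), (.e, true), (.c, true), (.d, true), (.b, true), (.c, true), (.a, true), (.b, true), (.i, true), (.f, true), (.d, true), (.c, true), (.e, true), (.d, true), (.h, true), (.d, true), (.e, true), (.c, true), (.d, true), (.e, true), (.f, true), (.i, true)],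
  W [(.i, true), (.f, true), (.e, true), (.g, true), (.f, true), (.d, true), (.c, true), (.e, true), (.d, true), (.h, true), (.d, true), (.e, true), (.c, true), (.d, true), (.f, true), (.g, true), (.d, true), (.c, true), (.e, true), (.d, true), (.h, true), (.d, true), (.e, true), (.c, true), (.d, true), (.f, true), (.i, true), (.b, true), (.a, true), (.c, true), (.b, true), (.d, true), (.c, true), (.e, true), (.d, true), (.h, true), (.d, true), (.e, true), (.c, true), (.d, true), (.b, true), (.c, true), (.a, true), (.b, true), (.d, true), (.c, true), (.e, true), (.d, true), (.h, true), (.d, true), (.e, true), (.c, true), (.d, true), (.i, true), (.f, true), (.b, true), (.a, true), (.c, true), (.b, true), (.d, true), (.c, true), (.e, true), (.d, true), (.h, true), (.d, true), (.e, true), (.c, true), (.d, true), (.b, true), (.c, true), (.a, true), (.b, true), (.g, true), (.f, true), (.d, true), (.c, true), (.e, true), (.d, true), (.h, true), (.d, true), (.e, true), (.c, true), (.d, true), (.f, true), (.g, true), (.b, true), (.a, true), (.c, true), (.b, true), (.d, true), (.c, true), (.e, true), (.d, true), (.h, true), (.d, true), (.e, true), (.c, true), (.d, true),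 (.b, true), (.c, true), (.a, true), (.b, true), (.f, true), (.i, true), (.d, true), (.c, true), (.e, true), (.d, true), (.h, true), (.d, true), (.e, true), (.c, true), (.d, true), (.b, true), (.a, true), (.c, true), (.b, true), (.d, true), (.c, true), (.e, true), (.d, true), (.h, true), (.d, true), (.e, true), (.c, true), (.d, true), (.b, true), (.c, true), (.a, true), (.b, true), (.i, true), (.f, true), (.d, true), (.c, true), (.e, true), (.d, true), (.h, true), (.d, true), (.e, true), (.c, true), (.d, true), (.e, true), (.f, true), (.i, true), (.f, true), (.e, true), (.d, true), (.c, true), (.e, true), (.d, true), (.h, true), (.d, true), (.e, true), (.c, true), (.d, true), (.f, true), (.i, true), (.b, true), (.a, true), (.c, true), (.b, true), (.d, true), (.c, true), (.e, true), (.d, true), (.h, true), (.d, true), (.e, true), (.c, true), (.d, true), (.b, true), (.c, true), (.a, true), (.b, true), (.d, true), (.c, true), (.e, true), (.d, true), (.h, true), (.d, true), (.e, true), (.c, true), (.d, true), (.i, true), (.f, true), (.b, true), (.a, true), (.c, true), (.b, true), (.d, true), (.c, true), (.e, true), (.d, true), (.h, true), (.d, true), (.e, true),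 (.c, true), (.d, true), (.b, true), (.c, true), (.a, true), (.b, true), (.d, true), (.c, true), (.e, true), (.d, true), (.h, true), (.d, true), (.e, true), (.c, true), (.d, true), (.f, true), (.i, true), (.b, true), (.a, true), (.c, true), (.b, true), (.d, true), (.c, true), (.e, true), (.d, true), (.h, true), (.d, true), (.e, true), (.c, true), (.d, true), (.b, true), (.c, true), (.a, true), (.b, true), (.d, true), (.c, true), (.e, true), (.d, true), (.h, true), (.d, true), (.e, true), (.c, true), (.d, true), (.i, true), (.f, true), (.b, true), (.a, true), (.c, true), (.b, true), (.d, true), (.c, true), (.e, true), (.d, true), (.h, true), (.d, true), (.e, true), (.c, true), (.d, true), (.b, true), (.c, true), (.a, true), (.b, true), (.g, true), (.f, true), (.d, true), (.c, true), (.e, true), (.d, true), (.h, true), (.d, true), (.e, true), (.c, true), (.d, true), (.f, true), (.g, true), (.b, true), (.a, true), (.c, true), (.b, true), (.d, true), (.c, true), (.e, true), (.d, true), (.h, true), (.d, true), (.e, true), (.c, true), (.d, true), (.b, true), (.c, true), (.a, true), (.b, true), (.f, true), (.i, true), (.d, true), (.c, true), (.e, true), (.d, true),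 (.h, true), (.d, true), (.e, true), (.c, true), (.d, true), (.b, true), (.a, true), (.c, true), (.b, true), (.d, true), (.c, true), (.e, true), (.d, true), (.h, true), (.d, true), (.e, true), (.c, true), (.d, true), (.b, true), (.c, true), (.a, true), (.b, true), (.i, true), (.f, true), (.d, true), (.c, true), (.e, true), (.d, true), (.h, true), (.d, true), (.e, true), (.c, true), (.d, true), (.b, true), (.a, true), (.c, true), (.b, true), (.d, true), (.c, true), (.e, true), (.d, true), (.h, true), (.d, true), (.e, true), (.c, true), (.d, true), (.b, true), (.c, true), (.a, true), (.b, true), (.f, true), (.i, true), (.d, true), (.c, true), (.e, true), (.d, true), (.h, true), (.d, true), (.e, true), (.c, true), (.d, true), (.b, true), (.a, true), (.c, true), (.b, true), (.d, true), (.c, true), (.e, true), (.d, true), (.h, true), (.d, true), (.e, true), (.c, true), (.d, true), (.b, true), (.c, true), (.a, true), (.b, true), (.i, true), (.f, true), (.d, true), (.c, true), (.e, true), (.d, true), (.h, true), (.d, true), (.e, true), (.c, true), (.d, true), (.e, true), (.f, true), (.i, true), (.f, true), (.e, true), (.d, true), (.c, true), (.e, true), (.d, true),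 (.h, true), (.d, true), (.e, true), (.c, true), (.d, true), (.f, true), (.i, true), (.b, true), (.a, true), (.c, true), (.b, true), (.d, true), (.c, true), (.e, true), (.d, true), (.h, true), (.d, true), (.e, true), (.c, true), (.d, true), (.b, true), (.c, true), (.a, true), (.b, true), (.d, true), (.c, true), (.e, true), (.d, true), (.h, true), (.d, true), (.e, true), (.c, true), (.d, true), (.i, true), (.f, true), (.b, true), (.a, true), (.c, true), (.b, true), (.d, true), (.c, true), (.e, true), (.d, true), (.h, true), (.d, true), (.e, true), (.c, true), (.d, true), (.b, true), (.c, true), (.a, true), (.b, true), (.g, true), (.f, true), (.d, true), (.c, true), (.e, true), (.d, true), (.h, true), (.d, true), (.e, true), (.c, true), (.d, true), (.f, true), (.g, true), (.b, true), (.a, true), (.c, true), (.b, true), (.d, true), (.c, true), (.e, true), (.d, true), (.h, true), (.d, true), (.e, true), (.c, true), (.d, true), (.b, true), (.c, true), (.a, true), (.b, true), (.f, true), (.i, true), (.d, true), (.c, true), (.e, true), (.d, true), (.h, true), (.d, true), (.e, true), (.c, true), (.d, true), (.b, true), (.a, true), (.c, true), (.b, true), (.d, true),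 (.c, true), (.e, true), (.d, true), (.h, true), (.d, true), (.e, true), (.c, true), (.d, true), (.b, true), (.c, true), (.a, true), (.b, true), (.i, true), (.f, true), (.d, true), (.c, true), (.e, true), (.d, true), (.h, true), (.d, true), (.e, true), (.c, true), (.d, true), (.g, true), (.f, true), (.d, true), (.c, true), (.e, true), (.d, true), (.h, true), (.d, true), (.e, true), (.c, true), (.d, true), (.f, true), (.g, true), (.e, true), (.f, true), (.i, true)],
  W [(.b, true), (.a, true), (.c, true), (.b, true), (.d, true), (.c, true), (.e, true), (.d, true), (.h, true), (.d, true), (.e, true), (.c, true), (.d, true), (.b, true), (.c, true), (.a, true), (.b, true), (.f, true), (.e, true), (.d, true), (.c, true), (.e, true), (.d, true), (.h, true), (.d, true), (.e, true), (.c, true), (.d, true), (.f, true), (.i, true), (.b, true), (.a, true), (.c, true), (.b, true), (.d, true), (.c, true), (.e, true), (.d, true), (.h, true), (.d, true), (.e, true), (.c, true), (.d, true), (.b, true), (.c, true), (.a, true), (.b, true), (.d, true), (.c, true), (.e, true), (.d, true), (.h, true), (.d, true), (.e, true), (.c, true), (.d, true), (.i, true), (.f, true), (.b,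 true), (.a, true), (.c, true), (.b, true), (.d, true), (.c, true), (.e, true), (.d, true), (.h, true), (.d, true), (.e, true), (.c, true), (.d, true), (.b, true), (.c, true), (.a, true), (.b, true), (.d, true), (.c, true), (.e, true), (.d, true), (.h, true), (.d, true), (.e, true), (.c, true), (.d, true), (.f, true), (.i, true), (.b, true), (.a, true), (.c, true), (.b, true), (.d, true), (.c, true), (.e, true), (.d, true), (.h, true), (.d, true), (.e, true), (.c, true), (.d, true), (.b, true), (.c, true), (.a, true), (.b, true), (.d, true), (.c, true), (.e, true), (.d, true), (.h, true), (.d, true), (.e, true), (.c, true), (.d, true), (.i, true), (.f, true), (.b, true), (.a, true), (.c, true), (.b, true), (.d, true), (.c, true), (.e, true), (.d, true), (.h, true), (.d, true), (.e, true), (.c, true), (.d, true), (.b, true), (.c, true), (.a, true), (.b, true), (.g, true), (.f, true), (.d, true), (.c, true), (.e, true), (.d, true), (.h, true), (.d, true), (.e, true), (.c, true), (.d, true), (.f, true), (.g, true), (.b, true), (.a, true), (.c, true), (.b, true), (.d, true), (.c, true), (.e, true), (.d, true), (.h, true), (.d, true), (.e, true), (.c, true), (.d,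 true), (.b, true), (.c, true), (.a, true), (.b, true), (.f, true), (.i, true), (.d, true), (.c, true), (.e, true), (.d, true), (.h, true), (.d, true), (.e, true), (.c, true), (.d, true), (.b, true), (.a, true), (.c, true), (.b, true), (.d, true), (.c, true), (.e, true), (.d, true), (.h, true), (.d, true), (.e, true), (.c, true), (.d, true), (.b, true), (.c, true), (.a, true), (.b, true), (.i, true), (.f, true), (.d, true), (.c, true), (.e, true), (.d, true), (.h, true), (.d, true), (.e, true), (.c, true), (.d, true), (.e, true), (.f, true), (.b, true), (.a, true), (.c, true), (.b, true), (.d, true), (.c, true), (.e, true), (.d, true), (.h, true), (.d, true), (.e, true), (.c, true), (.d, true), (.b, true), (.c, true), (.a, true), (.b, true), (.f, true), (.e, true), (.b, true), (.a, true), (.c, true), (.b, true), (.d, true), (.c, true), (.e, true), (.d, true), (.h, true), (.d, true), (.e, true), (.c, true), (.d, true), (.b, true), (.c, true), (.a, true), (.b, true), (.f, true), (.i, true), (.d, true), (.c, true), (.e, true), (.d, true), (.h, true), (.d, true), (.e, true), (.c, true), (.d, true), (.b, true), (.a, true), (.c, true), (.b, true), (.d, true), (.c,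 true), (.e, true), (.d, true), (.h, true), (.d, true), (.e, true), (.c, true), (.d, true), (.b, true), (.c, true), (.a, true), (.b, true), (.i, true), (.f, true), (.d, true), (.c, true), (.e, true), (.d, true), (.h, true), (.d, true), (.e, true), (.c, true), (.d, true), (.g, true), (.f, true), (.d, true), (.c, true), (.e, true), (.d, true), (.h, true), (.d, true), (.e, true), (.c, true), (.d, true), (.f, true), (.g, true), (.e, true), (.f, true)],
  W [(.f, true), (.e, true), (.g, true), (.f, true), (.d, true), (.c, true), (.e, true), (.d, true), (.h, true), (.d, true), (.e, true), (.c, true), (.d, true), (.f, true), (.g, true), (.e, true), (.f, true), (.i, true), (.b, true), (.a, true), (.c, true), (.b, true), (.d, true), (.c, true), (.e, true), (.d, true), (.h, true), (.d, true), (.e, true), (.c, true), (.d, true), (.b, true), (.c, true), (.a, true), (.b, true), (.f, true), (.e, true), (.g, true), (.f, true), (.d, true), (.c, true), (.e, true), (.d, true), (.h, true), (.d, true), (.e, true), (.c, true), (.d, true), (.f, true), (.g, true), (.e, true), (.f, true), (.i, true), (.f, true), (.e, true), (.d, true), (.c, true), (.e, true), (.d, true), (.h, true),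 (.d, true), (.e, true), (.c, true), (.d, true), (.f, true), (.i, true), (.b, true), (.a, true), (.c, true), (.b, true), (.d, true), (.c, true), (.e, true), (.d, true), (.h, true), (.d, true), (.e, true), (.c, true), (.d, true), (.b, true), (.c, true), (.a, true), (.b, true), (.d, true), (.c, true), (.e, true), (.d, true), (.h, true), (.d, true), (.e, true), (.c, true), (.d, true), (.i, true), (.f, true), (.b, true), (.a, true), (.c, true), (.b, true), (.d, true), (.c, true), (.e, true), (.d, true), (.h, true), (.d, true), (.e, true), (.c, true), (.d, true), (.b, true), (.c, true), (.a, true), (.b, true), (.d, true), (.c, true), (.e, true), (.d, true), (.h, true), (.d, true), (.e, true), (.c, true), (.d, true), (.f, true), (.i, true), (.b, true), (.a, true), (.c, true), (.b, true), (.d, true), (.c, true), (.e, true), (.d, true), (.h, true), (.d, true), (.e, true), (.c, true), (.d, true), (.b, true), (.c, true), (.a, true), (.b, true), (.d, true), (.c, true), (.e, true), (.d, true), (.h, true), (.d, true), (.e, true), (.c, true), (.d, true), (.i, true), (.f, true), (.b, true), (.a, true), (.c, true), (.b, true), (.d, true), (.c, true), (.e, true), (.d, true),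 (.h, true), (.d, true), (.e, true), (.c, true), (.d, true), (.b, true), (.c, true), (.a, true), (.b, true), (.g, true), (.f, true), (.d, true), (.c, true), (.e, true), (.d, true), (.h, true), (.d, true), (.e, true), (.c, true), (.d, true), (.f, true), (.g, true), (.b, true), (.a, true), (.c, true), (.b, true), (.d, true), (.c, true), (.e, true), (.d, true), (.h, true), (.d, true), (.e, true), (.c, true), (.d, true), (.b, true), (.c, true), (.a, true), (.b, true), (.f, true), (.i, true), (.d, true), (.c, true), (.e, true), (.d, true), (.h, true), (.d, true), (.e, true), (.c, true), (.d, true), (.b, true), (.a, true), (.c, true), (.b, true), (.d, true), (.c, true), (.e, true), (.d, true), (.h, true), (.d, true), (.e, true), (.c, true), (.d, true), (.b, true), (.c, true), (.a, true), (.b, true), (.i, true), (.f, true), (.d, true), (.c, true), (.e, true), (.d, true), (.h, true), (.d, true), (.e, true), (.c, true), (.d, true), (.e, true), (.f, true), (.b, true), (.a, true), (.c, true), (.b, true), (.d, true), (.c, true), (.e, true), (.d, true), (.h, true), (.d, true), (.e, true), (.c, true), (.d, true), (.b, true), (.c, true), (.a, true), (.b, true), (.f, true),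 (.e, true), (.b, true), (.a, true), (.c, true), (.b, true), (.d, true), (.c, true), (.e, true), (.d, true), (.h, true), (.d, true), (.e, true), (.c, true), (.d, true), (.b, true), (.c, true), (.a, true), (.b, true), (.f, true), (.i, true), (.d, true), (.c, true), (.e, true), (.d, true), (.h, true), (.d, true), (.e, true), (.c, true), (.d, true), (.b, true), (.a, true), (.c, true), (.b, true), (.d, true), (.c, true), (.e, true), (.d, true), (.h, true), (.d, true), (.e, true), (.c, true), (.d, true), (.b, true), (.c, true), (.a, true), (.b, true), (.i, true), (.f, true), (.d, true), (.c, true), (.e, true), (.d, true), (.h, true), (.d, true), (.e, true), (.c, true), (.d, true), (.e, true), (.f, true), (.i, true), (.f, true), (.e, true), (.g, true), (.f, true), (.d, true), (.c, true), (.e, true), (.d, true), (.h, true), (.d, true), (.e, true), (.c, true), (.d, true), (.f, true), (.g, true), (.e, true), (.f, true), (.b, true), (.a, true), (.c, true), (.b, true), (.d, true), (.c, true), (.e, true), (.d, true), (.h, true), (.d, true), (.e, true), (.c, true), (.d, true), (.b, true), (.c, true), (.a, true), (.b, true), (.i, true), (.f, true), (.e, true), (.d, true),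 (.c, true), (.e, true), (.d, true), (.h, true), (.d, true), (.e, true), (.c, true), (.d, true), (.f, true), (.i, true), (.b, true), (.a, true), (.c, true), (.b, true), (.d, true), (.c, true), (.e, true), (.d, true), (.h, true), (.d, true), (.e, true), (.c, true), (.d, true), (.b, true), (.c, true), (.a, true), (.b, true), (.d, true), (.c, true), (.e, true), (.d, true), (.h, true), (.d, true), (.e, true), (.c, true), (.d, true), (.i, true), (.f, true), (.b, true), (.a, true), (.c, true), (.b, true), (.d, true), (.c, true), (.e, true), (.d, true), (.h, true), (.d, true), (.e, true), (.c, true), (.d, true), (.b, true), (.c, true), (.a, true), (.b, true), (.e, true), (.f, true), (.b, true), (.a, true), (.c, true), (.b, true), (.d, true), (.c, true), (.e, true), (.d, true), (.h, true), (.d, true), (.e, true), (.c, true), (.d, true), (.b, true), (.c, true), (.a, true), (.b, true), (.f, true), (.e, true), (.b, true), (.a, true), (.c, true), (.b, true), (.d, true), (.c, true), (.e, true), (.d, true), (.h, true), (.d, true), (.e, true), (.c, true), (.d, true), (.b, true), (.c, true), (.a, true), (.b, true), (.f, true), (.i, true), (.d, true), (.c, true), (.e, true),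 (.d, true), (.h, true), (.d, true), (.e, true), (.c, true), (.d, true), (.b, true), (.a, true), (.c, true), (.b, true), (.d, true), (.c, true), (.e, true), (.d, true), (.h, true), (.d, true), (.e, true), (.c, true), (.d, true), (.b, true), (.c, true), (.a, true), (.b, true), (.i, true), (.f, true), (.d, true), (.c, true), (.e, true), (.d, true), (.h, true), (.d, true), (.e, true), (.c, true), (.d, true), (.e, true), (.f, true)]]

/-- The mask of level 6. -/
def M6 : ℕ := nat_lit 0x4000000000000000600000000000080000000000000000000000000000000000000000000010038

theorem fix6 : ∀ r ∈ rs6, ∀ b ∈ ([1, 26, 173, 59, 12, 0] : List ℕ), wordApply (sgnProg pr) r.toWord (2 ^ b) = 2 ^ b := by decide +kernel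

theorem M6_eq : grow pr (rs6.map FreeGroup.toWord) 1 (2 ^ 3) = M6 := by decide +kernel

theorem M6_lt : M6 < 2 ^ 2 ^ 12 := by decide +kernel

theorem M6_cnt : sumRange M6.testBit 12 0 = 8 := by decide +kernel

theorem L6 : 8 * Nat.card (ptStab Phi ([3, 1, 26, 173, 59, 12, 0] : List ℕ)) ≤ Nat.card (ptStab Phi ([1, 26, 173, 59, 12, 0] : List ℕ)) :=
  card_step (M6_eq ▸ sound_ptStab hR hv rs6 fix6 1 3) M6_lt M6_cnt

/-- The words of level 7. -/
noncomputable def rs7 : List (FreeGroup Cfsg.Spor.Fi22.Gen) := [
  W [(.i, true), (.f, true), (.e, true), (.g, true), (.f, true), (.d, true), (.c, true), (.e, true), (.d, true), (.h, true), (.d, true), (.e, true), (.c, true), (.d, true), (.f, true), (.g, true), (.d, true), (.c, true), (.e, true), (.d, true), (.h, true), (.d, true), (.e, true), (.c, true), (.d, true), (.f, true), (.i, true), (.b, true), (.a, true), (.c, true), (.b, true), (.d, true), (.c, true), (.e, true), (.d, true), (.h, true), (.d, true), (.e, true), (.c, true), (.d, true), (.b, true), (.c, true), (.a, true), (.b, true), (.d, true), (.c, true), (.e, true), (.d, true), (.h, true), (.d, true), (.e, true), (.c, true), (.d, true), (.i, true), (.f, true),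 (.b, true), (.a, true), (.c, true), (.b, true), (.d, true), (.c, true), (.e, true), (.d, true), (.h, true), (.d, true), (.e, true), (.c, true), (.d, true), (.b, true), (.c, true), (.a, true), (.b, true), (.g, true), (.f, true), (.d, true), (.c, true), (.e, true), (.d, true), (.h, true), (.d, true), (.e, true), (.c, true), (.d, true), (.f, true), (.g, true), (.b, true), (.a, true), (.c, true), (.b, true), (.d, true), (.c, true), (.e, true), (.d, true), (.h, true), (.d, true), (.e, true), (.c, true), (.d, true), (.b, true), (.c, true), (.a, true), (.b, true), (.f, true), (.i, true), (.d, true), (.c, true), (.e, true), (.d, true), (.h, true), (.d, true), (.e, true), (.c, true), (.d, true), (.b, true), (.a, true), (.c, true), (.b, true), (.d, true), (.c, true), (.e, true), (.d, true), (.h, true), (.d, true), (.e, true), (.c, true), (.d, true), (.b, true), (.c, true), (.a, true), (.b, true), (.i, true), (.f, true), (.d, true), (.c, true), (.e, true), (.d, true), (.h, true), (.d, true), (.e, true), (.c, true), (.d, true), (.e, true), (.f, true), (.i, true), (.f, true), (.e, true), (.d, true), (.c, true), (.e, true), (.d, true), (.h, true), (.d, true), (.e, true),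 (.c, true), (.d, true), (.f, true), (.i, true), (.b, true), (.a, true), (.c, true), (.b, true), (.d, true), (.c, true), (.e, true), (.d, true), (.h, true), (.d, true), (.e, true), (.c, true), (.d, true), (.b, true), (.c, true), (.a, true), (.b, true), (.d, true), (.c, true), (.e, true), (.d, true), (.h, true), (.d, true), (.e, true), (.c, true), (.d, true), (.i, true), (.f, true), (.b, true), (.a, true), (.c, true), (.b, true), (.d, true), (.c, true), (.e, true), (.d, true), (.h, true), (.d, true), (.e, true), (.c, true), (.d, true), (.b, true), (.c, true), (.a, true), (.b, true), (.d, true), (.c, true), (.e, true), (.d, true), (.h, true), (.d, true), (.e, true), (.c, true), (.d, true), (.f, true), (.i, true), (.b, true), (.a, true), (.c, true), (.b, true), (.d, true), (.c, true), (.e, true), (.d, true), (.h, true), (.d, true), (.e, true), (.c, true), (.d, true), (.b, true), (.c, true), (.a, true), (.b, true), (.d, true), (.c, true), (.e, true), (.d, true), (.h, true), (.d, true), (.e, true), (.c, true), (.d, true), (.i, true), (.f, true), (.b, true), (.a, true), (.c, true), (.b, true), (.d, true), (.c, true), (.e, true), (.d, true), (.h, true), (.d, true),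 (.e, true), (.c, true), (.d, true), (.b, true), (.c, true), (.a, true), (.b, true), (.g, true), (.f, true), (.d, true), (.c, true), (.e, true), (.d, true), (.h, true), (.d, true), (.e, true), (.c, true), (.d, true), (.f, true), (.g, true), (.b, true), (.a, true), (.c, true), (.b, true), (.d, true), (.c, true), (.e, true), (.d, true), (.h, true), (.d, true), (.e, true), (.c, true), (.d, true), (.b, true), (.c, true), (.a, true), (.b, true), (.f, true), (.i, true), (.d, true), (.c, true), (.e, true), (.d, true), (.h, true), (.d, true), (.e, true), (.c, true), (.d, true), (.b, true), (.a, true), (.c, true), (.b, true), (.d, true), (.c, true), (.e, true), (.d, true), (.h, true), (.d, true), (.e, true), (.c, true), (.d, true), (.b, true), (.c, true), (.a, true), (.b, true), (.i, true), (.f, true), (.d, true), (.c, true), (.e, true), (.d, true), (.h, true), (.d, true), (.e, true), (.c, true), (.d, true), (.b, true), (.a, true), (.c, true), (.b, true), (.d, true), (.c, true), (.e, true), (.d, true), (.h, true), (.d, true), (.e, true), (.c, true), (.d, true), (.b, true), (.c, true), (.a, true), (.b, true), (.f, true), (.i, true), (.d, true), (.c, true), (.e, true),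 (.d, true), (.h, true), (.d, true), (.e, true), (.c, true), (.d, true), (.b, true), (.a, true), (.c, true), (.b, true), (.d, true), (.c, true), (.e, true), (.d, true), (.h, true), (.d, true), (.e, true), (.c, true), (.d, true), (.b, true), (.c, true), (.a, true), (.b, true), (.i, true), (.f, true), (.d, true), (.c, true), (.e, true), (.d, true), (.h, true), (.d, true), (.e, true), (.c, true), (.d, true), (.e, true), (.f, true), (.i, true), (.f, true), (.e, true), (.d, true), (.c, true), (.e, true), (.d, true), (.h, true), (.d, true), (.e, true), (.c, true), (.d, true), (.f, true), (.i, true), (.b, true), (.a, true), (.c, true), (.b, true), (.d, true), (.c, true), (.e, true), (.d, true), (.h, true), (.d, true), (.e, true), (.c, true), (.d, true), (.b, true), (.c, true), (.a, true), (.b, true), (.d, true), (.c, true), (.e, true), (.d, true), (.h, true), (.d, true), (.e, true), (.c, true), (.d, true), (.i, true), (.f, true), (.b, true), (.a, true), (.c, true), (.b, true), (.d, true), (.c, true), (.e, true), (.d, true), (.h, true), (.d, true), (.e, true), (.c, true), (.d, true), (.b, true), (.c, true), (.a, true), (.b, true), (.g, true), (.f, true), (.d, true),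 (.c, true), (.e, true), (.d, true), (.h, true), (.d, true), (.e, true), (.c, true), (.d, true), (.f, true), (.g, true), (.b, true), (.a, true), (.c, true), (.b, true), (.d, true), (.c, true), (.e, true), (.d, true), (.h, true), (.d, true), (.e, true), (.c, true), (.d, true), (.b, true), (.c, true), (.a, true), (.b, true), (.f, true), (.i, true), (.d, true), (.c, true), (.e, true), (.d, true), (.h, true), (.d, true), (.e, true), (.c, true), (.d, true), (.b, true), (.a, true), (.c, true), (.b, true), (.d, true), (.c, true), (.e, true), (.d, true), (.h, true), (.d, true), (.e, true), (.c, true), (.d, true), (.b, true), (.c, true), (.a, true), (.b, true), (.i, true), (.f, true), (.d, true), (.c, true), (.e, true), (.d, true), (.h, true), (.d, true), (.e, true), (.c, true), (.d, true), (.g, true), (.f, true), (.d, true), (.c, true), (.e, true), (.d, true), (.h, true), (.d, true), (.e, true), (.c, true), (.d, true), (.f, true), (.g, true), (.e, true), (.f, true), (.i, true)],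
  W [(.f, true), (.e, true), (.g, true), (.f, true), (.d, true), (.c, true), (.e, true), (.d, true), (.h, true), (.d, true), (.e, true), (.c, true), (.d, true), (.f, true), (.g, true), (.e, true), (.f, true), (.i, true), (.b, true), (.a, true), (.c, true), (.b, true), (.d, true), (.c, true), (.e, true), (.d, true), (.h, true), (.d, true), (.e, true), (.c, true), (.d, true), (.b, true), (.c, true), (.a, true), (.b, true), (.f, true), (.e, true), (.g, true), (.f, true), (.d, true), (.c, true), (.e, true), (.d, true), (.h, true), (.d, true), (.e, true), (.c, true), (.d, true), (.f, true), (.g, true), (.e, true), (.f, true), (.i, true), (.f, true), (.e, true), (.d, true), (.c, true), (.e, true), (.d, true), (.h, true), (.d, true), (.e, true), (.c, true), (.d, true), (.f, true), (.i, true), (.b, true), (.a, true), (.c, true), (.b, true), (.d, true), (.c, true), (.e, true), (.d, true), (.h, true), (.d, true), (.e, true), (.c, true), (.d, true), (.b, true), (.c, true), (.a, true), (.b, true), (.d, true), (.c, true), (.e, true), (.d, true), (.h, true), (.d, true), (.e, true), (.c, true), (.d, true), (.i, true), (.f, true), (.b, true), (.a, true), (.c, true), (.b, true),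 (.d, true), (.c, true), (.e, true), (.d, true), (.h, true), (.d, true), (.e, true), (.c, true), (.d, true), (.b, true), (.c, true), (.a, true), (.b, true), (.d, true), (.c, true), (.e, true), (.d, true), (.h, true), (.d, true), (.e, true), (.c, true), (.d, true), (.f, true), (.i, true), (.b, true), (.a, true), (.c, true), (.b, true), (.d, true), (.c, true), (.e, true), (.d, true), (.h, true), (.d, true), (.e, true), (.c, true), (.d, true), (.b, true), (.c, true), (.a, true), (.b, true), (.d, true), (.c, true), (.e, true), (.d, true), (.h, true), (.d, true), (.e, true), (.c, true), (.d, true), (.i, true), (.f, true), (.b, true), (.a, true), (.c, true), (.b, true), (.d, true), (.c, true), (.e, true), (.d, true), (.h, true), (.d, true), (.e, true), (.c, true), (.d, true), (.b, true), (.c, true), (.a, true), (.b, true), (.g, true), (.f, true), (.d, true), (.c, true), (.e, true), (.d, true), (.h, true), (.d, true), (.e, true), (.c, true), (.d, true), (.f, true), (.g, true), (.b, true), (.a, true), (.c, true), (.b, true), (.d, true), (.c, true), (.e, true), (.d, true), (.h, true), (.d, true), (.e, true), (.c, true), (.d, true), (.b, true), (.c, true), (.a, true),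 (.b, true), (.f, true), (.i, true), (.d, true), (.c, true), (.e, true), (.d, true), (.h, true), (.d, true), (.e, true), (.c, true), (.d, true), (.b, true), (.a, true), (.c, true), (.b, true), (.d, true), (.c, true), (.e, true), (.d, true), (.h, true), (.d, true), (.e, true), (.c, true), (.d, true), (.b, true), (.c, true), (.a, true), (.b, true), (.i, true), (.f, true), (.d, true), (.c, true), (.e, true), (.d, true), (.h, true), (.d, true), (.e, true), (.c, true), (.d, true), (.e, true), (.f, true), (.b, true), (.a, true), (.c, true), (.b, true), (.d, true), (.c, true), (.e, true), (.d, true), (.h, true), (.d, true), (.e, true), (.c, true), (.d, true), (.b, true), (.c, true), (.a, true), (.b, true), (.f, true), (.e, true), (.b, true), (.a, true), (.c, true), (.b, true), (.d, true), (.c, true), (.e, true), (.d, true), (.h, true), (.d, true), (.e, true), (.c, true), (.d, true), (.b, true), (.c, true), (.a, true), (.b, true), (.f, true), (.i, true), (.d, true), (.c, true), (.e, true), (.d, true), (.h, true), (.d, true), (.e, true), (.c, true), (.d, true), (.b, true), (.a, true), (.c, true), (.b, true), (.d, true), (.c, true), (.e, true), (.d, true), (.h, true),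 (.d, true), (.e, true), (.c, true), (.d, true), (.b, true), (.c, true), (.a, true), (.b, true), (.i, true), (.f, true), (.d, true), (.c, true), (.e, true), (.d, true), (.h, true), (.d, true), (.e, true), (.c, true), (.d, true), (.e, true), (.f, true), (.i, true), (.f, true), (.e, true), (.g, true), (.f, true), (.d, true), (.c, true), (.e, true), (.d, true), (.h, true), (.d, true), (.e, true), (.c, true), (.d, true), (.f, true), (.g, true), (.e, true), (.f, true), (.b, true), (.a, true), (.c, true), (.b, true), (.d, true), (.c, true), (.e, true), (.d, true), (.h, true), (.d, true), (.e, true), (.c, true), (.d, true), (.b, true), (.c, true), (.a, true), (.b, true), (.i, true), (.f, true), (.e, true), (.d, true), (.c, true), (.e, true), (.d, true), (.h, true), (.d, true), (.e, true), (.c, true), (.d, true), (.f, true), (.i, true), (.b, true), (.a, true), (.c, true), (.b, true), (.d, true), (.c, true), (.e, true), (.d, true), (.h, true), (.d, true), (.e, true), (.c, true), (.d, true), (.b, true), (.c, true), (.a, true), (.b, true), (.d, true), (.c, true), (.e, true), (.d, true), (.h, true), (.d, true), (.e, true), (.c, true), (.d, true), (.i, true), (.f, true),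 (.b, true), (.a, true), (.c, true), (.b, true), (.d, true), (.c, true), (.e, true), (.d, true), (.h, true), (.d, true), (.e, true), (.c, true), (.d, true), (.b, true), (.c, true), (.a, true), (.b, true), (.e, true), (.f, true), (.b, true), (.a, true), (.c, true), (.b, true), (.d, true), (.c, true), (.e, true), (.d, true), (.h, true), (.d, true), (.e, true), (.c, true), (.d, true), (.b, true), (.c, true), (.a, true), (.b, true), (.f, true), (.e, true), (.g, true), (.f, true), (.d, true), (.c, true), (.e, true), (.d, true), (.h, true), (.d, true), (.e, true), (.c, true), (.d, true), (.f, true), (.g, true), (.b, true), (.a, true), (.c, true), (.b, true), (.d, true), (.c, true), (.e, true), (.d, true), (.h, true), (.d, true), (.e, true), (.c, true), (.d, true), (.b, true), (.c, true), (.a, true), (.b, true), (.f, true), (.i, true), (.d, true), (.c, true), (.e, true), (.d, true), (.h, true), (.d, true), (.e, true), (.c, true), (.d, true), (.b, true), (.a, true), (.c, true), (.b, true), (.d, true), (.c, true), (.e, true), (.d, true), (.h, true), (.d, true), (.e, true), (.c, true), (.d, true), (.b, true), (.c, true), (.a, true), (.b, true), (.i, true), (.f, true),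 (.d, true), (.c, true), (.e, true), (.d, true), (.h, true), (.d, true), (.e, true), (.c, true), (.d, true), (.e, true), (.f, true)]]

/-- The mask of level 7. -/
def M7 : ℕ := nat_lit 0x400000000000000000000000000200000

theorem fix7 : ∀ r ∈ rs7, ∀ b ∈ ([3, 1, 26, 173, 59, 12, 0] : List ℕ), wordApply (sgnProg pr) r.toWord (2 ^ b) = 2 ^ b := by decide +kernel

theorem M7_eq : grow pr (rs7.map FreeGroup.toWord) 1 (2 ^ 21) = M7 := by decide +kernel

theorem M7_lt : M7 < 2 ^ 2 ^ 12 := by decide +kernel

theorem M7_cnt : sumRange M7.testBit 12 0 = 2 := by decide +kernel

theorem L7 : 2 * Nat.card (ptStab Phi ([21, 3, 1, 26, 173, 59, 12, 0] : List ℕ)) ≤ Nat.card (ptStab Phi ([3, 1, 26, 173, 59, 12, 0] : List ℕ)) :=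
  card_step (M7_eq ▸ sound_ptStab hR hv rs7 fix7 1 21) M7_lt M7_cnt

/-- The words of level 8. -/
noncomputable def rs8 : List (FreeGroup Cfsg.Spor.Fi22.Gen) := [
  W [(.i, true), (.f, true), (.e, true), (.g, true), (.f, true), (.d, true), (.c, true), (.e, true), (.d, true), (.h, true), (.d, true), (.e, true), (.c, true), (.d, true), (.f, true), (.g, true), (.d, true), (.c, true), (.e, true), (.d, true), (.h, true), (.d, true), (.e, true), (.c, true), (.d, true), (.f, true), (.i, true), (.b, true), (.a, true), (.c, true), (.b, true), (.d, true), (.c, true), (.e, true), (.d, true), (.h, true), (.d, true), (.e, true), (.c, true), (.d, true), (.b, true), (.c, true), (.a, true), (.b, true), (.d, true), (.c, true), (.e, true), (.d, true), (.h, true), (.d, true), (.e, true), (.c, true), (.d, true), (.i, true), (.f, true), (.b, true), (.a, true), (.c, true), (.b, true), (.d, true), (.c, true), (.e, true), (.d, true), (.h, true), (.d, true), (.e, true), (.c, true), (.d, true), (.b, true), (.c, true), (.a, true), (.b, true), (.g, true), (.f, true), (.d, true), (.c, true), (.e, true), (.d, true), (.h, true), (.d, true), (.e, true), (.c, true), (.d, true), (.f, true),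 (.g, true), (.b, true), (.a, true), (.c, true), (.b, true), (.d, true), (.c, true), (.e, true), (.d, true), (.h, true), (.d, true), (.e, true), (.c, true), (.d, true), (.b, true), (.c, true), (.a, true), (.b, true), (.f, true), (.i, true), (.d, true), (.c, true), (.e, true), (.d, true), (.h, true), (.d, true), (.e, true), (.c, true), (.d, true), (.b, true), (.a, true), (.c, true), (.b, true), (.d, true), (.c, true), (.e, true), (.d, true), (.h, true), (.d, true), (.e, true), (.c, true), (.d, true), (.b, true), (.c, true), (.a, true), (.b, true), (.i, true), (.f, true), (.d, true), (.c, true), (.e, true), (.d, true), (.h, true), (.d, true), (.e, true), (.c, true), (.d, true), (.e, true), (.f, true), (.i, true), (.f, true), (.e, true), (.d, true), (.c, true), (.e, true), (.d, true), (.h, true), (.d, true), (.e, true), (.c, true), (.d, true), (.f, true), (.i, true), (.b, true), (.a, true), (.c, true), (.b, true), (.d, true), (.c, true), (.e, true), (.d, true), (.h, true), (.d, true), (.e, true), (.c, true), (.d, true), (.b, true), (.c, true), (.a, true), (.b, true), (.d, true), (.c, true), (.e, true), (.d, true), (.h, true), (.d, true), (.e, true), (.c, true),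 (.d, true), (.i, true), (.f, true), (.b, true), (.a, true), (.c, true), (.b, true), (.d, true), (.c, true), (.e, true), (.d, true), (.h, true), (.d, true), (.e, true), (.c, true), (.d, true), (.b, true), (.c, true), (.a, true), (.b, true), (.d, true), (.c, true), (.e, true), (.d, true), (.h, true), (.d, true), (.e, true), (.c, true), (.d, true), (.f, true), (.i, true), (.b, true), (.a, true), (.c, true), (.b, true), (.d, true), (.c, true), (.e, true), (.d, true), (.h, true), (.d, true), (.e, true), (.c, true), (.d, true), (.b, true), (.c, true), (.a, true), (.b, true), (.d, true), (.c, true), (.e, true), (.d, true), (.h, true), (.d, true), (.e, true), (.c, true), (.d, true), (.i, true), (.f, true), (.b, true), (.a, true), (.c, true), (.b, true), (.d, true), (.c, true), (.e, true), (.d, true), (.h, true), (.d, true), (.e, true), (.c, true), (.d, true), (.b, true), (.c, true), (.a, true), (.b, true), (.g, true), (.f, true), (.d, true), (.c, true), (.e, true), (.d, true), (.h, true), (.d, true), (.e, true), (.c, true), (.d, true), (.f, true), (.g, true), (.b, true), (.a, true), (.c, true), (.b, true), (.d, true), (.c, true), (.e, true), (.d, true), (.h, true),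 (.d, true), (.e, true), (.c, true), (.d, true), (.b, true), (.c, true), (.a, true), (.b, true), (.f, true), (.i, true), (.d, true), (.c, true), (.e, true), (.d, true), (.h, true), (.d, true), (.e, true), (.c, true), (.d, true), (.b, true), (.a, true), (.c, true), (.b, true), (.d, true), (.c, true), (.e, true), (.d, true), (.h, true), (.d, true), (.e, true), (.c, true), (.d, true), (.b, true), (.c, true), (.a, true), (.b, true), (.i, true), (.f, true), (.d, true), (.c, true), (.e, true), (.d, true), (.h, true), (.d, true), (.e, true), (.c, true), (.d, true), (.b, true), (.a, true), (.c, true), (.b, true), (.d, true), (.c, true), (.e, true), (.d, true), (.h, true), (.d, true), (.e, true), (.c, true), (.d, true), (.b, true), (.c, true), (.a, true), (.b, true), (.f, true), (.i, true), (.d, true), (.c, true), (.e, true), (.d, true), (.h, true), (.d, true), (.e, true), (.c, true), (.d, true), (.b, true), (.a, true), (.c, true), (.b, true), (.d, true), (.c, true), (.e, true), (.d, true), (.h, true), (.d, true), (.e, true), (.c, true), (.d, true), (.b, true), (.c, true), (.a, true), (.b, true), (.i, true), (.f, true), (.d, true), (.c, true), (.e, true), (.d, true),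 (.h, true), (.d, true), (.e, true), (.c, true), (.d, true), (.e, true), (.f, true), (.i, true), (.f, true), (.e, true), (.d, true), (.c, true), (.e, true), (.d, true), (.h, true), (.d, true), (.e, true), (.c, true), (.d, true), (.f, true), (.i, true), (.b, true), (.a, true), (.c, true), (.b, true), (.d, true), (.c, true), (.e, true), (.d, true), (.h, true), (.d, true), (.e, true), (.c, true), (.d, true), (.b, true), (.c, true), (.a, true), (.b, true), (.d, true), (.c, true), (.e, true), (.d, true), (.h, true), (.d, true), (.e, true), (.c, true), (.d, true), (.i, true), (.f, true), (.b, true), (.a, true), (.c, true), (.b, true), (.d, true), (.c, true), (.e, true), (.d, true), (.h, true), (.d, true), (.e, true), (.c, true), (.d, true), (.b, true), (.c, true), (.a, true), (.b, true), (.g, true), (.f, true), (.d, true), (.c, true), (.e, true), (.d, true), (.h, true), (.d, true), (.e, true), (.c, true), (.d, true), (.f, true), (.g, true), (.b, true), (.a, true), (.c, true), (.b, true), (.d, true), (.c, true), (.e, true), (.d, true), (.h, true), (.d, true), (.e, true), (.c, true), (.d, true), (.b, true), (.c, true), (.a, true), (.b, true), (.f, true), (.i, true),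 (.d, true), (.c, true), (.e, true), (.d, true), (.h, true), (.d, true), (.e, true), (.c, true), (.d, true), (.b, true), (.a, true), (.c, true), (.b, true), (.d, true), (.c, true), (.e, true), (.d, true), (.h, true), (.d, true), (.e, true), (.c, true), (.d, true), (.b, true), (.c, true), (.a, true), (.b, true), (.i, true), (.f, true), (.d, true), (.c, true), (.e, true), (.d, true), (.h, true), (.d, true), (.e, true), (.c, true), (.d, true), (.g, true), (.f, true), (.d, true), (.c, true), (.e, true), (.d, true), (.h, true), (.d, true), (.e, true), (.c, true), (.d, true), (.f, true), (.g, true), (.e, true), (.f, true), (.i, true), (.f, true), (.e, true), (.g, true), (.f, true), (.d, true), (.c, true), (.e, true), (.d, true), (.h, true), (.d, true), (.e, true), (.c, true), (.d, true), (.f, true), (.g, true), (.e, true), (.f, true), (.i, true), (.b, true), (.a, true), (.c, true), (.b, true), (.d, true), (.c, true), (.e, true), (.d, true), (.h, true), (.d, true), (.e, true), (.c, true), (.d, true), (.b, true), (.c, true), (.a, true), (.b, true), (.f, true), (.e, true), (.g, true), (.f, true), (.d, true), (.c, true), (.e, true), (.d, true), (.h, true), (.d, true),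 (.e, true), (.c, true), (.d, true), (.f, true), (.g, true), (.e, true), (.f, true), (.i, true), (.f, true), (.e, true), (.d, true), (.c, true), (.e, true), (.d, true), (.h, true), (.d, true), (.e, true), (.c, true), (.d, true), (.f, true), (.i, true), (.b, true), (.a, true), (.c, true), (.b, true), (.d, true), (.c, true), (.e, true), (.d, true), (.h, true), (.d, true), (.e, true), (.c, true), (.d, true), (.b, true), (.c, true), (.a, true), (.b, true), (.d, true), (.c, true), (.e, true), (.d, true), (.h, true), (.d, true), (.e, true), (.c, true), (.d, true), (.i, true), (.f, true), (.b, true), (.a, true), (.c, true), (.b, true), (.d, true), (.c, true), (.e, true), (.d, true), (.h, true), (.d, true), (.e, true), (.c, true), (.d, true), (.b, true), (.c, true), (.a, true), (.b, true), (.d, true), (.c, true), (.e, true), (.d, true), (.h, true), (.d, true), (.e, true), (.c, true), (.d, true), (.f, true), (.i, true), (.b, true), (.a, true), (.c, true), (.b, true), (.d, true), (.c, true), (.e, true), (.d, true), (.h, true), (.d, true), (.e, true), (.c, true), (.d, true), (.b, true), (.c, true), (.a, true), (.b, true), (.d, true), (.c, true), (.e, true), (.d, true),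 (.h, true), (.d, true), (.e, true), (.c, true), (.d, true), (.i, true), (.f, true), (.b, true), (.a, true), (.c, true), (.b, true), (.d, true), (.c, true), (.e, true), (.d, true), (.h, true), (.d, true), (.e, true), (.c, true), (.d, true), (.b, true), (.c, true), (.a, true), (.b, true), (.g, true), (.f, true), (.d, true), (.c, true), (.e, true), (.d, true), (.h, true), (.d, true), (.e, true), (.c, true), (.d, true), (.f, true), (.g, true), (.b, true), (.a, true), (.c, true), (.b, true), (.d, true), (.c, true), (.e, true), (.d, true), (.h, true), (.d, true), (.e, true), (.c, true), (.d, true), (.b, true), (.c, true), (.a, true), (.b, true), (.f, true), (.i, true), (.d, true), (.c, true), (.e, true), (.d, true), (.h, true), (.d, true), (.e, true), (.c, true), (.d, true), (.b, true), (.a, true), (.c, true), (.b, true), (.d, true), (.c, true), (.e, true), (.d, true), (.h, true), (.d, true), (.e, true), (.c, true), (.d, true), (.b, true), (.c, true), (.a, true), (.b, true), (.i, true), (.f, true), (.d, true), (.c, true), (.e, true), (.d, true), (.h, true), (.d, true), (.e, true), (.c, true), (.d, true), (.e, true), (.f, true), (.b, true), (.a, true), (.c, true),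 (.b, true), (.d, true), (.c, true), (.e, true), (.d, true), (.h, true), (.d, true), (.e, true), (.c, true), (.d, true), (.b, true), (.c, true), (.a, true), (.b, true), (.f, true), (.e, true), (.b, true), (.a, true), (.c, true), (.b, true), (.d, true), (.c, true), (.e, true), (.d, true), (.h, true), (.d, true), (.e, true), (.c, true), (.d, true), (.b, true), (.c, true), (.a, true), (.b, true), (.f, true), (.i, true), (.d, true), (.c, true), (.e, true), (.d, true), (.h, true), (.d, true), (.e, true), (.c, true), (.d, true), (.b, true), (.a, true), (.c, true), (.b, true), (.d, true), (.c, true), (.e, true), (.d, true), (.h, true), (.d, true), (.e, true), (.c, true), (.d, true), (.b, true), (.c, true), (.a, true), (.b, true), (.i, true), (.f, true), (.d, true), (.c, true), (.e, true), (.d, true), (.h, true), (.d, true), (.e, true), (.c, true), (.d, true), (.e, true), (.f, true), (.i, true), (.f, true), (.e, true), (.g, true), (.f, true), (.d, true), (.c, true), (.e, true), (.d, true), (.h, true), (.d, true), (.e, true), (.c, true), (.d, true), (.f, true), (.g, true), (.e, true), (.f, true), (.b, true), (.a, true), (.c, true), (.b, true), (.d, true), (.c, true),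 (.e, true), (.d, true), (.h, true), (.d, true), (.e, true), (.c, true), (.d, true), (.b, true), (.c, true), (.a, true), (.b, true), (.i, true), (.f, true), (.e, true), (.d, true), (.c, true), (.e, true), (.d, true), (.h, true), (.d, true), (.e, true), (.c, true), (.d, true), (.f, true), (.i, true), (.b, true), (.a, true), (.c, true), (.b, true), (.d, true), (.c, true), (.e, true), (.d, true), (.h, true), (.d, true), (.e, true), (.c, true), (.d, true), (.b, true), (.c, true), (.a, true), (.b, true), (.d, true), (.c, true), (.e, true), (.d, true), (.h, true), (.d, true), (.e, true), (.c, true), (.d, true), (.i, true), (.f, true), (.b, true), (.a, true), (.c, true), (.b, true), (.d, true), (.c, true), (.e, true), (.d, true), (.h, true), (.d, true), (.e, true), (.c, true), (.d, true), (.b, true), (.c, true), (.a, true), (.b, true), (.e, true), (.f, true), (.b, true), (.a, true), (.c, true), (.b, true), (.d, true), (.c, true), (.e, true), (.d, true), (.h, true), (.d, true), (.e, true), (.c, true), (.d, true), (.b, true), (.c, true), (.a, true), (.b, true), (.f, true), (.e, true), (.g, true), (.f, true), (.d, true), (.c, true), (.e, true), (.d, true), (.h, true),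 (.d, true), (.e, true), (.c, true), (.d, true), (.f, true), (.g, true), (.b, true), (.a, true), (.c, true), (.b, true), (.d, true), (.c, true), (.e, true), (.d, true), (.h, true), (.d, true), (.e, true), (.c, true), (.d, true), (.b, true), (.c, true), (.a, true), (.b, true), (.f, true), (.i, true), (.d, true), (.c, true), (.e, true), (.d, true), (.h, true), (.d, true), (.e, true), (.c, true), (.d, true), (.b, true), (.a, true), (.c, true), (.b, true), (.d, true), (.c, true), (.e, true), (.d, true), (.h, true), (.d, true), (.e, true), (.c, true), (.d, true), (.b, true), (.c, true), (.a, true), (.b, true), (.i, true), (.f, true), (.d, true), (.c, true), (.e, true), (.d, true), (.h, true), (.d, true), (.e, true), (.c, true), (.d, true), (.e, true), (.f, true)]]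

/-- The mask of level 8. -/
def M8 : ℕ := nat_lit 0x4000040000

theorem fix8 : ∀ r ∈ rs8, ∀ b ∈ ([21, 3, 1, 26, 173, 59, 12, 0] : List ℕ), wordApply (sgnProg pr) r.toWord (2 ^ b) = 2 ^ b := by decide +kernel

theorem M8_eq : grow pr (rs8.map FreeGroup.toWord) 1 (2 ^ 18) = M8 := by decide +kernel

theorem M8_lt : M8 < 2 ^ 2 ^ 12 := by decide +kernel

theorem M8_cnt : sumRange M8.testBit 12 0 = 2 := by decide +kernel

theorem L8 : 2 * Nat.card (ptStab Phi ([18, 21, 3, 1, 26, 173, 59, 12, 0] : List ℕ)) ≤ Nat.card (ptStab Phi ([21, 3, 1, 26, 173, 59, 12, 0] : List ℕ)) :=
  card_step (M8_eq ▸ sound_ptStab hR hv rs8 fix8 1 18) M8_lt M8_cnt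

theorem C9 : 1 * Nat.card (ptStab Phi ([18, 21, 3, 1, 26, 173, 59, 12, 0] : List ℕ)) ≤ Nat.card (ptStab Phi ([18, 21, 3, 1, 26, 173, 59, 12, 0] : List ℕ)) := by simp

theorem C8 : (2 * 1) * Nat.card (ptStab Phi ([18, 21, 3, 1, 26, 173, 59, 12, 0] : List ℕ)) ≤ Nat.card (ptStab Phi ([21, 3, 1, 26, 173, 59, 12, 0] : List ℕ)) :=
  lower_step L8 C9

theorem C7 : (2 * (2 * 1)) * Nat.card (ptStab Phi ([18, 21, 3, 1, 26, 173, 59, 12, 0] : List ℕ)) ≤ Nat.card (ptStab Phi ([3, 1, 26, 173, 59, 12, 0] : List ℕ)) :=
  lower_step L7 C8

theorem C6 : (8 * (2 * (2 * 1))) * Nat.card (ptStab Phi ([18, 21, 3, 1, 26, 173, 59, 12, 0] : List ℕ)) ≤ Nat.card (ptStab Phi ([1, 26, 173, 59, 12, 0] : List ℕ)) :=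
  lower_step L6 C7

theorem C5 : (32 * (8 * (2 * (2 * 1)))) * Nat.card (ptStab Phi ([18, 21, 3, 1, 26, 173, 59, 12, 0] : List ℕ)) ≤ Nat.card (ptStab Phi ([26, 173, 59, 12, 0] : List ℕ)) :=
  lower_step L5 C6

theorem C4 : (48 * (32 * (8 * (2 * (2 * 1))))) * Nat.card (ptStab Phi ([18, 21, 3, 1, 26, 173, 59, 12, 0] : List ℕ)) ≤ Nat.card (ptStab Phi ([173, 59, 12, 0] : List ℕ)) :=
  lower_step L4 C5

theorem C3 : (3 * (48 * (32 * (8 * (2 * (2 * 1)))))) * Nat.card (ptStab Phi ([18, 21, 3, 1, 26, 173, 59, 12, 0] : List ℕ)) ≤ Nat.card (ptStab Phi ([59, 12, 0] : List ℕ)) :=
  lower_step L3 C4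

theorem C2 : (180 * (3 * (48 * (32 * (8 * (2 * (2 * 1))))))) * Nat.card (ptStab Phi ([18, 21, 3, 1, 26, 173, 59, 12, 0] : List ℕ)) ≤ Nat.card (ptStab Phi ([12, 0] : List ℕ)) :=
  lower_step L2 C3

theorem C1 : (693 * (180 * (3 * (48 * (32 * (8 * (2 * (2 * 1)))))))) * Nat.card (ptStab Phi ([18, 21, 3, 1, 26, 173, 59, 12, 0] : List ℕ)) ≤ Nat.card (ptStab Phi ([0] : List ℕ)) :=
  lower_step L1 C2

theorem C0 : (3510 * (693 * (180 * (3 * (48 * (32 * (8 * (2 * (2 * 1))))))))) * Nat.card (ptStab Phi ([18, 21, 3, 1, 26, 173, 59, 12, 0] : List ℕ)) ≤ Nat.card (ptStab Phi ([] : List ℕ)) :=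
  lower_step L0 C1

theorem top_eq : ptStab Phi ([] : List ℕ) = ⊤ := ptStab_nil Phi

theorem card_spec : Nat.card (PresentedGroup RR) = 64561751654400 ∧ ∀ g ∈ ptStab Phi ([18, 21, 3, 1, 26, 173, 59, 12, 0] : List ℕ), g = 1 := by
  have h := C0
  rw [top_eq] at h
  exact eq_of_lower (by norm_num) (h.trans' (Nat.mul_le_mul_right _ (by norm_num))) upper.1

end Cfsg.Agent.TcChain36.Fi22
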